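import Cfsg.Agent.H704.S8.Defs_m3
import Cfsg.Agent.H999.DS.Tools_m3
import Cfsg.Agent.H417.BlockCount
import Cfsg.Agent.H208.DS.Cent
import Cfsg.Agent.S0365
import Cfsg.Agent.H841.PB.FiTwentyTwo
import Cfsg.Agent.H704.SporCases_m3
import Cfsg.Agent.H283.SporLie_m3
import Cfsg.Agent.CpQuot.Congr
import Cfsg.Agent.SignalizersComponents.SLQuasisimple
import Cfsg.Agent.H547.SelfCent.Tits
import Cfsg.Agent.H393.Iso.TitsJ4
import Cfsg.Agent.S1074
import Cfsg.Agent.Prune
set_option linter.all false

-- part: H704/DS/Rel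
section
prune_inst 0x7f00000000000000000000000000000000000000000000000000000000000000000000000000000000000000000000000000000000000000000000000000000000000000000000000000000000000000003fffffffffffffffffffffffffffbeffbdffffffff
set_option linter.all false
open scoped Cfsg.Agent.FastGrp

/-- decoders of the packed data (elaboration time only) -/
private noncomputable def pk61d (b S i : Nat) : Nat := Nat.mod (Nat.shiftRight S (Nat.mul b i)) (Nat.shiftLeft (nat_lit 1) b)
private noncomputable def pk61f {α : Type} (t : Nat) (f : Nat → α) : α := Nat.rec (f Nat.zero) (fun k _ => f (Nat.succ k)) t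
private noncomputable def pk61l {α : Type} (f : Nat → α) (s e : Nat) (tl : List α) : List α :=
  pk61f e fun e => Nat.rec tl (fun k ih => List.cons (pk61f (Nat.sub e (Nat.succ k)) f) ih) (Nat.sub e s)
private noncomputable def lq269ac25b0281 {T : Sort _} (f :
    (type_of% @_root_.List.cons.{0}) →
    (type_of% @_root_.List.nil.{0}) →
    (type_of% @_root_.Prod.mk.{0, 0}) →
    ((List (Prod Nat (List Nat))) → (List (Prod Nat (List Nat)))) → T) : T :=
  f (@_root_.List.cons.{0}) (@_root_.List.nil.{0}) (@_root_.Prod.mk.{0, 0}) (fun x => x)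

-- part: H704/DS/Roots
section
/-!
# The degree of `(n - k, μ)` as a polynomial in `n` (helper704)
-/

set_option autoImplicit false
set_option linter.unusedSectionVars false

namespace Cfsg.Agent.H704.DS

open Finset Cfsg.Agent.H704

theorem dec_tail {a : ℕ} {t : List ℕ} (h : Dec (a :: t)) : Dec t := List.Pairwise.of_cons h

theorem colLen_le_sum {t : List ℕ} (hp : ∀ a ∈ t, 0 < a) (j : ℕ) : colLen t j ≤ t.sum := by
  have h1 := colLen_le_length t j
  have h2 : t.length ≤ t.sum := by
    have h11 : ∀ c ∈ t, 1 ≤ c := fun c hc => hp c hc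
    have := List.card_nsmul_le_sum _ 1 h11
    simpa using this
  omega

/-- the numbers `k - 1 - i + t_i` and `k + j - t'_j` are the numbers `0, ..., k + m - 1` -/
theorem prod_split {t : List ℕ} (hS : Dec t) (hp : ∀ a ∈ t, 0 < a) (F : ℕ → ℕ) :
    ∏ c ∈ range (t.sum + t.headD 0), F c =
      (∏ i ∈ range t.sum, F (t.sum - 1 - i + t.getD i 0)) * ∏ j ∈ range (t.headD 0), F (t.sum + j - colLen t j) := by
  classical
  set k := t.sum with hk
  set m := t.headD 0 with hm
  set c : ℕ → ℕ := fun i => k - 1 - i + t.getD i 0 with hc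
  set c' : ℕ → ℕ := fun j => k + j - colLen t j with hc'
  have hcl : ∀ j, colLen t j ≤ k := fun j => colLen_le_sum hp j
  have hinj : Set.InjOn c (range k) := by
    intro i hi i' hi' h
    rw [coe_range, Set.mem_Iio] at hi hi'
    simp only [hc] at h
    rcases lt_trichotomy i i' with h1 | h1 | h1
    · have := getD_anti hS h1.le; omega
    · exact h1
    · have := getD_anti hS h1.le; omega
  have hinj' : Set.InjOn c' (range m) := by
    intro j hj j' hj' h
    simp only [hc'] at h
    have g1 := hcl j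
    have g2 := hcl j'
    rcases lt_trichotomy j j' with h1 | h1 | h1
    · have := colLen_anti t h1.le; omega
    · exact h1
    · have := colLen_anti t h1.le; omega
  have hdisj : Disjoint ((range k).image c) ((range m).image c') := by
    rw [Finset.disjoint_left]
    intro x hx hx'
    obtain ⟨i, hi, h1⟩ := mem_image.1 hx
    obtain ⟨j, hj, h2⟩ := mem_image.1 hx'
    rw [mem_range] at hi hj
    simp only [hc] at h1
    simp only [hc'] at h2
    have g := hcl j
    by_cases h : j < t.getD i 0
    · have h3 := (lt_colLen_iff hS i j).2 h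
      omega
    · have h3 : ¬ i < colLen t j := fun h4 => h ((lt_colLen_iff hS i j).1 h4)
      omega
  have hunion : (range k).image c ∪ (range m).image c' = range (k + m) := by
    apply Finset.eq_of_subset_of_card_le
    · intro x hx
      rw [mem_range]
      rcases mem_union.1 hx with h | h
      · obtain ⟨i, hi, h1⟩ := mem_image.1 h
        rw [mem_range] at hi
        simp only [hc] at h1
        have h2 := getD_anti hS (Nat.zero_le i)
        rw [← headD_eq_getD] at h2
        omega
      · obtain ⟨j, hj, h1⟩ := mem_image.1 h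
        rw [mem_range] at hj
        simp only [hc'] at h1
        omega
    · rw [card_union_of_disjoint hdisj, card_image_of_injOn hinj, card_image_of_injOn hinj', card_range,
        card_range, card_range]
  rw [← hunion, prod_union hdisj, prod_image (by simpa using hinj), prod_image (by simpa using hinj')]

/-- **the degree of `(n - k, μ)`** -/
theorem deg_roots {a : ℕ} {t : List ℕ} {n d : ℕ} (hl : IsPart (a :: t) n) (hd : d * hookProd (a :: t) = n.factorial) :
    d * hookProd t = ∏ i ∈ range t.sum, (n - (t.sum - 1 - i + t.getD i 0)) := by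
  have hS := hl.sorted
  have hSt := dec_tail hS
  have hp : ∀ c ∈ t, 0 < c := fun c hc => hl.pos c (List.mem_cons_of_mem _ hc)
  obtain ⟨f, -, hf⟩ := exists_deg (l := t) (n := t.sum) hSt rfl
  have h := deg_mul_desc hl hd hf
  have hsum : a + t.sum = n := by have := hl.sum; rwa [List.sum_cons] at this
  have hk : t.headD 0 ≤ a := by
    cases t with
    | nil => simp
    | cons b t => exact List.rel_of_pairwise_cons hS (by simp)
  rw [Nat.descFactorial_eq_prod_range, prod_split hSt hp fun c => n - c] at h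
  have hA : ∏ j ∈ range (t.headD 0), (n - (t.sum + j - colLen t j)) =
      ∏ j ∈ range (t.headD 0), (a - j + colLen t j) := by
    apply prod_congr rfl
    intro j hj
    rw [mem_range] at hj
    have := colLen_le_sum hp j
    omega
  rw [hA] at h
  have hpos : 0 < ∏ j ∈ range (t.headD 0), (a - j + colLen t j) := by
    apply prod_pos
    intro j hj
    rw [mem_range] at hj
    omega
  have hf0 : 0 < t.sum.factorial := Nat.factorial_pos _
  apply Nat.eq_of_mul_eq_mul_right hpos
  apply Nat.eq_of_mul_eq_mul_right hf0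
  calc d * hookProd t * (∏ j ∈ range (t.headD 0), (a - j + colLen t j)) * t.sum.factorial
      = (d * (∏ j ∈ range (t.headD 0), (a - j + colLen t j)) * t.sum.factorial) * hookProd t := by ring
    _ = _ := by rw [h, ← hf]; ring

end Cfsg.Agent.H704.DS
end

-- part: H704/DS/Table
section
/-!
# Table of the partitions `μ` with `|μ| ≤ 12` or `|μ| + μ₁ ≤ 23` (helper704)

`tb k` is the list, for `m = 0, 1, ..., k`, of the lists of `(hook product, roots)` of the partitions of `k` with
first part `m`.
-/

set_option autoImplicit false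
set_option maxRecDepth 100000

namespace Cfsg.Agent.H704.DS

/-- the partitions of `0` -/
def tb0 : List (List (ℕ × List ℕ)) :=
  [[(1, [])]]

/-- the partitions of `1` -/
def tb1 : List (List (ℕ × List ℕ)) :=
  [[],
   [(1, [1])]]

/-- the partitions of `2` -/
def tb2 : List (List (ℕ × List ℕ)) :=
  (beta% delta% lq269ac25b0281 fun vqc0 vqc1 vqc2 _ =>
      (vqc0 vqc1
      (vqc0 (vqc0 (vqc2 2 (vqc0 2 (vqc0 1 vqc1))) vqc1)
      (vqc0 (vqc0 (vqc2 2 (vqc0 3 (vqc0 0 vqc1))) vqc1) vqc1))))

/-- the partitions of `3` -/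
def tb3 : List (List (ℕ × List ℕ)) :=
  (beta% delta% lq269ac25b0281 fun vqc0 vqc1 vqc2 _ =>
      (vqc0 vqc1
      (vqc0 (vqc0 (vqc2 6 (vqc0 3 (vqc0 2 (vqc0 1 vqc1)))) vqc1)
      (vqc0 (vqc0 (vqc2 3 (vqc0 4 (vqc0 2 (vqc0 0 vqc1)))) vqc1)
      (vqc0 (vqc0 (vqc2 6 (vqc0 5 (vqc0 1 (vqc0 0 vqc1)))) vqc1) vqc1)))))

/-- the partitions of `4` -/
def tb4 : List (List (ℕ × List ℕ)) :=
  (beta% delta% lq269ac25b0281 fun vqc0 vqc1 vqc2 _ =>
      (vqc0 vqc1
      (vqc0 (vqc0 (vqc2 24 (vqc0 4 (vqc0 3 (vqc0 2 (vqc0 1 vqc1))))) vqc1)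
      (vqc0 (vqc0 (vqc2 8 (vqc0 5 (vqc0 3 (vqc0 2 (vqc0 0 vqc1))))) (vqc0 (vqc2 12 (vqc0 5 (vqc0 4 (vqc0 1 (vqc0 0 vqc1))))) vqc1))
      (vqc0 (vqc0 (vqc2 8 (vqc0 6 (vqc0 3 (vqc0 1 (vqc0 0 vqc1))))) vqc1)
      (vqc0 (vqc0 (vqc2 24 (vqc0 7 (vqc0 2 (vqc0 1 (vqc0 0 vqc1))))) vqc1) vqc1))))))

/-- the partitions of `5` -/
def tb5 : List (List (ℕ × List ℕ)) :=
  (beta% delta% lq269ac25b0281 fun vqc0 vqc1 vqc2 _ =>
      (vqc0 vqc1
      (vqc0 (vqc0 (vqc2 120 (vqc0 5 (vqc0 4 (vqc0 3 (vqc0 2 (vqc0 1 vqc1)))))) vqc1)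
      (vqc0 (vqc0 (vqc2 30 (vqc0 6 (vqc0 4 (vqc0 3 (vqc0 2 (vqc0 0 vqc1)))))) (vqc0 (vqc2 24 (vqc0 6 (vqc0 5 (vqc0 3 (vqc0 1 (vqc0 0 vqc1)))))) vqc1))
      (vqc0 (vqc0 (vqc2 20 (vqc0 7 (vqc0 4 (vqc0 3 (vqc0 1 (vqc0 0 vqc1)))))) (vqc0 (vqc2 24 (vqc0 7 (vqc0 5 (vqc0 2 (vqc0 1 (vqc0 0 vqc1)))))) vqc1))
      (vqc0 (vqc0 (vqc2 30 (vqc0 8 (vqc0 4 (vqc0 2 (vqc0 1 (vqc0 0 vqc1)))))) vqc1)
      (vqc0 (vqc0 (vqc2 120 (vqc0 9 (vqc0 3 (vqc0 2 (vqc0 1 (vqc0 0 vqc1)))))) vqc1) vqc1)))))))

/-- the partitions of `6` -/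
def tb6 : List (List (ℕ × List ℕ)) :=
  (by
  refine (?fq9001 : ((pk61l (fun i1 => ((fun g1 : Nat → Nat => pk61l (fun i2 => (_root_.Prod.mk (pk61d (nat_lit 10) 
    (nat_lit 0x2d024050120900b44824050242d0) i2) (pk61l (fun i3 => (pk61d (nat_lit 4) 
    (nat_lit 0x1234b01235a012369012459012378012468013458012567013467023457123456) i3)) (Nat.mul (nat_lit 6) i2) (Nat.mul (nat_lit 6) (Nat.succ i2)) List.nil))) (g1 i1) (g1 (Nat.succ i1)) List.nil) fun j => (pk61d (nat_lit 4) 
    (nat_lit 0xba974100) j))) (nat_lit 0) (nat_lit 7) List.nil) : List (List (ℕ × List ℕ)))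
    = ?xq9001 → (List (List (ℕ × List ℕ)))) ?hq9001; (case hq9001 => (set_option maxRecDepth 1000000 in set_option simprocs false in conv => lhs; reduce; dsimp only)); intro _; exact ?xq9001 : List (List (ℕ × List ℕ)))

/-- the partitions of `7` -/
def tb7 : List (List (ℕ × List ℕ)) :=
  (by
  refine (?fq9002 : ((pk61l (fun i1 => ((fun g1 : Nat → Nat => pk61l (fun i2 => (_root_.Prod.mk (pk61d (nat_lit 13) 
    (nat_lit 0x4ec06901680a805a01200fc07803c01201500b405a06913b0) i2) (pk61l (fun i3 => (pk61d (nat_lit 4) 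
    (nat_lit 0x12345d012346c012347b012356b012348a012357a012456a01235890123679012457901345690124678013457802345681234567) i3)) (Nat.mul (nat_lit 7) i2) (Nat.mul (nat_lit 7) (Nat.succ i2)) List.nil))) (g1 i1) (g1 (Nat.succ i1)) List.nil) fun j => (pk61d (nat_lit 4) 
    (nat_lit 0xfedb84100) j))) (nat_lit 0) (nat_lit 8) List.nil) : List (List (ℕ × List ℕ)))
    = ?xq9002 → (List (List (ℕ × List ℕ)))) ?hq9002; (case hq9002 => (set_option maxRecDepth 1000000 in set_option simprocs false in conv => lhs; reduce; dsimp only)); intro _; exact ?xq9002 : List (List (ℕ × List ℕ)))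

/-- the partitions of `8` -/
def tb8 : List (List (ℕ × List ℕ)) :=
  (by
  refine (?fq9003 : ((pk61l (fun i1 => ((fun g1 : Nat → Nat => pk61l (fun i2 => (_root_.Prod.mk (pk61d (nat_lit 16) 
    (nat_lit 0x9d80168007e0078005a0027604800b40024002d001c0048003c002d00240027607800b4005a007e016809d80) i2) (pk61l (fun i3 => (pk61d (nat_lit 4) 
    (nat_lit 0x123456f0123457e0123458d0123467d0123459c0123468c0123567c012345ab0123469b0123478b0123568b0124567b0123479a0123569a0123578a0124568a0134567a0123678901245789013456890234567912345678) i3)) (Nat.mul (nat_lit 8) i2) (Nat.mul (nat_lit 8) (Nat.succ i2)) List.nil))) (g1 i1) (g1 (Nat.succ i1)) List.nil) fun j => (pk61d (nat_lit 5) 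
    (nat_lit 0x2d5a49ea28400) j))) (nat_lit 0) (nat_lit 9) List.nil) : List (List (ℕ × List ℕ)))
    = ?xq9003 → (List (List (ℕ × List ℕ)))) ?hq9003; (case hq9003 => (set_option maxRecDepth 1000000 in set_option simprocs false in conv => lhs; reduce; dsimp only)); intro _; exact ?xq9003 : List (List (ℕ × List ℕ)))

/-- the partitions of `9` -/
def tb9 : List (List (ℕ × List ℕ)) :=
  (by
  refine (?fq9004 : ((pk61l (fun i1 => ((fun g1 : Nat → Nat => pk61l (fun i2 => (_root_.Prod.mk (pk61d (nat_lit 19) 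
    (nat_lit 0x2c4c00b130069000ca800ec400d80032a008700046000bd000f000510008700087000d2001a4003c00195004380021c005e8010e001180036001950021c003b100d200589858980) i2) (pk61l (fun i3 => (pk61d (nat_lit 5) 
    (nat_lit 0x110c8531e20088642991000443214c978022190a743c0110c85329c00886429d2e00443218e870022190a65b40110c853a9a0088642a12d00443218e968022194c74340110c853ad80088642a14c00443218ea60022190c84b00110ca63a5800888531d0c004432152a58022190c852c0110ca63a960088643a12b004432990958022214c74ac01190a63a160088653a12a004442990950023214c74a802190a63a14110c8531d09) i3)) (Nat.mul (nat_lit 9) i2) (Nat.mul (nat_lit 9) (Nat.succ i2)) List.nil))) (g1 i1) (g1 (Nat.succ i1)) List.nil) fun j => (pk61d (nat_lit 5) 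
    (nat_lit 0x7bbcd5e4c28400) j))) (nat_lit 0) (nat_lit 10) List.nil) : List (List (ℕ × List ℕ)))
    = ?xq9004 → (List (List (ℕ × List ℕ)))) ?hq9004; (case hq9004 => (set_option maxRecDepth 1000000 in set_option simprocs false in conv => lhs; reduce; dsimp only)); intro _; exact ?xq9004 : List (List (ℕ × List ℕ)))

/-- the partitions of `10` -/
def tb10 : List (List (ℕ × List ℕ)) :=
  (by
  refine (?fq9005 : ((pk61l (fun i1 => ((fun g1 : Nat → Nat => pk61l (fun i2 => (_root_.Prod.mk (pk61d (nat_lit 22) 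
    (nat_lit 0xdd7c0062700065400189c002f4000589802a30009d8000b40003f0000a2000708005460003138007e0001900006c0001fa401c2000384000bd00043800049d401b0000bd000190000a2000a8c0010e0003840007e0003f0000c4e002d00016260189c005460009d8002f40019500189c0375f00) i2) (pk61l (fun i3 => (pk61d (nat_lit 5) 
    (nat_lit 0x443214c744c0110c8531d3200443214c75440110c853213100443214c75c00110c853215000443214e84c00110c8531d8f00443214c85bc0110c853254f00443214e853c0110c863a12f00443214c76b80110c853218e00443214c95b80110c853a16e00443214e95380110c863a14e00443298e84b80110c853258d00443214e86340110c853296d00443214e95b40110c863a16d00443215095340110c863a54d00443298e853401110a63a12d00443214ea5b00110c854256c00443218e95b00110ca63a16c00443219095300110ca63a54c00444298e853001190a63a12c0044321d0952c0110ca64254b00444298e952c01190a63a14b00864298e84ac22190a63a12a) i3)) (Nat.mul (nat_lit 10) i2) (Nat.mul (nat_lit 10) (Nat.succ i2)) List.nil))) (g1 i1) (g1 (Nat.succ i1)) List.nil) fun j => (pk61d (nat_lit 6) 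
    (nat_lit 0xaa9a268de5ce181000) j))) (nat_lit 0) (nat_lit 11) List.nil) : List (List (ℕ × List ℕ)))
    = ?xq9005 → (List (List (ℕ × List ℕ)))) ?hq9005; (case hq9005 => (set_option maxRecDepth 1000000 in set_option simprocs false in conv => lhs; reduce; dsimp only)); intro _; exact ?xq9005 : List (List (ℕ × List ℕ)))

/-- the partitions of `11` -/
def tb11 : List (List (ℕ × List ℕ)) :=
  (by
  refine (?fq9006 : ((pk61l (fun i1 => ((fun g1 : Nat → Nat => pk61l (fun i2 => (_root_.Prod.mk (pk61d (nat_lit 26) 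
    (nat_lit 0x98454003ce8800375f000d8900016260002a3000144d8003b1000046e000195000041a0002e680012750000e1000027600007e90002370000a8c0009ab0001d8800027600008700003b100004380001950000bd00001950000a8c000b9a00015180001d88000bd000020d000076200010e00008dc00021c00007e900041a00051360005460000ec400027600009d80006540001d8800038400011b8000a8c000d8900012750003b10001626000dd7c00f3a202611500) i2) (pk61l (fun i3 => (pk61d (nat_lit 5) 
    (nat_lit 0x443214c7426a008864298e85500110c8531d0b98022190a63a55300443214c74324008864298e95c80110c853212a90022190a63a1b100443214c74b22008864298ea5c40110c853212b88022190a74255100443214c743a0008864298e96c00110c8531d4c80022190a64259000443214c852e000886429d095c00110c863a12a80022190a63a5cf00443214c7535e008864299096bc0110c8531d6c78022190a64298f00443214e84b1e0088642992a5bc0110c853a14b78022190c74256f00443298e84a9e008864298eb6b80110c853214d70022190a7425ae00443214c85b1c0088642992a6380110c853a14c70022190c74258e00443214e952dc00886431d0a5b80110ca63a12b70022214c74254e00443214c95b1a00886429d0b6340110c853a54c68022190c74298d00443298e84b1a0088642a12a5b40110c863a54b68022194c74296d00444298e84ada008c8531d095340110c864254b60022194c74a96c00444298e852d8008c8531d095b002190a63a12a60443214c74254b)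 i3)) (Nat.mul (nat_lit 11) i2) (Nat.mul (nat_lit 11) (Nat.succ i2)) List.nil))) (g1 i1) (g1 (Nat.succ i1)) List.nil) fun j => (pk61d (nat_lit 6) 
    (nat_lit 0x38df6d31b256d0181000) j))) (nat_lit 0) (nat_lit 12) List.nil) : List (List (ℕ × List ℕ)))
    = ?xq9006 → (List (List (ℕ × List ℕ)))) ?hq9006; (case hq9006 => (set_option maxRecDepth 1000000 in set_option simprocs false in conv => lhs; reduce; dsimp only)); intro _; exact ?xq9006 : List (List (ℕ × List ℕ)))

/-- the partitions of `12` -/
def tb12 : List (List (ℕ × List ℕ)) :=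
  (by
  refine (?fq9007 : ((pk61l (fun i1 => ((fun g1 : Nat → Nat => pk61l (fun i2 => (_root_.Prod.mk (pk61d (nat_lit 29) 
    (nat_lit 0x3919f8002987400043ad000213900006ebe0002f76000162600006a50000313800016d73000b1300003f4800017bb000083400003de000019500000b130000530e800276000011b80000875a0003cc00001c200000dec00006ebe000313800016260000af000004ec000025f8000109c800083400003f480001c200000d200000530e80028800000f300) (pk61d (nat_lit 6) 
    (nat_lit 0x259238a071f7986576dd51030f45a85628848215018e6954cd0471030061c545b6892c340910108f4c83177da35254a41959461c8a175e823925) i2)) (pk61l (fun i3 => (pk61d (nat_lit 5) 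
    (nat_lit 0x443214c74255700443214c74257600443214c74259500443214c74297500443214c7425b400443214c74299400443214c74a97400443214c7425d300443214c7429b300443214c742d9300443214c74a99300443214c84a97300443214c7425f200443214c7429d200443214c742db200443214c74a9b200443214c74ad9200443214c84a99200443214e84a97200443214c74261100443214c7429f100443214c742dd100443214c74a9d100443214c7431b100443214c74adb100443214c84a9b100443214c752d9100443214c84ad9100443214e84a99100443218e84a97100443214c742df000443214c74a9f000443214c7431d000443214c74add000443214c84a9d000443214c74b1b000443214c752db000443214c84adb000443214e84a9b000443214c852d9000443214e84ad9000443218e84a99000443298e84a97000443214c7435cf00443214c74b1cf00443214c752dcf00443214c84adcf00443214e84a9cf00443214c7531af00443214c84b1af00443214c852daf00443214e84adaf00443218e84a9af00443214c952d8f00443214e852d8f00443218e84ad8f00443298e84a98f00444298e84a96f00443214c75b1ae00443214c8531ae00443214e84b1ae00443214c952dae00443214e852dae00443218e84adae00443298e84a9ae00443214e952d8e00443218e852d8e00443298e84ad8e00444298e84a98e00464298e84a96e004432150952d8d00443218e952d8d00443298e852d8d00444298e84ad8d00464298e84a98d00864298e84a96d08864298e84a96c)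 i3)) (Nat.mul (nat_lit 12) i2) (Nat.mul (nat_lit 12) (Nat.succ i2)) List.nil))) (g1 i1) (g1 (Nat.succ i1)) List.nil) fun j => (pk61d (nat_lit 7) 
    (nat_lit 0x26cc972634174bd1130e04000) j))) (nat_lit 0) (nat_lit 13) List.nil) : List (List (ℕ × List ℕ)))
    = ?xq9007 → (List (List (ℕ × List ℕ)))) ?hq9007; (case hq9007 => (set_option maxRecDepth 1000000 in set_option simprocs false in conv => lhs; reduce; dsimp only)); intro _; exact ?xq9007 : List (List (ℕ × List ℕ)))

/-- the partitions of `13` -/
def tb13 : List (List (ℕ × List ℕ)) :=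
  (by
  refine (?fq9008 : ((pk61l (fun i1 => ((fun g1 : Nat → Nat => pk61l (fun i2 => (_root_.Prod.mk (pk61d (nat_lit 33) 
    (nat_lit 0x17328cc000f770880016d730000b3f4c0001c8cfc000d7f28000375f000017fe80000a61d00003bfc400019b540000cb07000049d4000022ce0000109c8000049d40000213900000fd2000006ebe0000352800001a1a80000bdd800005a3c00002c4c000012fc0000093a80000427200001fa400000ec4000006ebe000033900000185d00000b130000054600000289b000012750000084e4000041a000001fa400000ec400000654000002f76000016260000093a8000046e00) (pk61d (nat_lit 6) 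
    (nat_lit 0x289a799f85e96475a5986e399c44f6463573958a04d240224818128b2958da3147441402c70c004e50935b95a3071465da10830219848f59e9dd69065345a86071d7e6a66926a2aaec) i2)) (pk61l (fun i3 => (pk61d (nat_lit 5) 
    (nat_lit 0x8864298e84a9d600443214c74256db0022190a63a14b6580110c8531d0953ea008864298e84add500443214c74258da8022190a63a14b6d40110c8531d2a5b2a008864298e84aa1400443214c74256fa0022190a63a12c7500110c8531d0a5ba8008864298e8531b400443214c74a96da0022190a64254b6500110c8531d095466008864298e84ae1300443214c74258f98022190a63a14b7cc0110c8531d096ba6008864298e8531d300443214c74a96e98022190a63a16c6cc0110c8531d2a63660088642990952db300443214e84a96c98022190a63a12b8c80110c8531d096424008864298e852e1200443214c7425af90022190a63a14c7c80110c8531d2a5be4008864298e8535d200443214c742d8e90022190a63a54c7480110c853212a5ba4008864298e95b1b200443214c84a98d90022190a74254b6c80110c863a12a5b24008864298e84b61100443214c74299088022190a63a54b8440110c8531d0973e2008864298e8535f100443214c742d8f88022190a63a54c7c40110c853212a5be2008864298e85b5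d100443214c74a9ae88022190a63a56c7440110c853212a63a200886429d0952dd100443214c752d8d88022190a64256c6c40110c853a12a636200886431d0952db100443298e84a96c88022190a63a14e7c00110c8531d0b6be0008864298e9535f000443214c74ad8f80022190a64254c7c00110c853a12a5be0008864298e8635d000443214c74adae80022190a64254d7400110c8531d4b63a0008864299095b1d000443214e84a98e80022190c74254b7400110c853214b636000886429d095b1b000443218e84a98d80022194c74254b6c001110a63a12a5b20008864298e9635cf00443214c752dae78022190a64256d73c0110c853a12a6b9e0088642990a5b1cf00443214e84ad8e78022190c74254c73c0110ca63a12a5b9e0088642992a5b1af00443214e852d8d78022190c74256c6bc0110ca63a12a635e00888531d0952daf00464298e84a96c78022190a74a96c6b80110c863a14b635c00886531d095b1ae00444298e84a98d70023214c74254b6b802190a63a12a5b1c110c8531d0952d8d) i3)) (Nat.mul (nat_lit 13) i2) (Nat.mul (nat_lit 13) (Nat.succ i2)) List.nil))) (g1 i1) (g1 (Nat.succ i1)) List.nil) fun j => (pk61d (nat_lit 7) 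
    (nat_lit 0xc37acd28ee53950e04000) j))) (nat_lit 0) (nat_lit 11) List.nil) : List (List (ℕ × List ℕ)))
    = ?xq9008 → (List (List (ℕ × List ℕ)))) ?hq9008; (case hq9008 => (set_option maxRecDepth 1000000 in set_option simprocs false in conv => lhs; reduce; dsimp only)); intro _; exact ?xq9008 : List (List (ℕ × List ℕ)))

/-- the partitions of `14` -/
def tb14 : List (List (ℕ × List ℕ)) :=
  (by
  refine (?fq9009 : ((pk61l (fun i1 => ((fun g1 : Nat → Nat => pk61l (fun i2 => (_root_.Prod.mk (pk61d (nat_lit 37) 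
    (nat_lit 0xa261d9400063ed72000086f790000429e4c000098454000048acb000018399000009476b80004142400001d11e00000a61d000004099800001e74400000c1cc80000530e8000027fd80000098454000048acb000021bde40000e808000006ebe0000033ae0000017bb000000ae060000052440000024ea00000117ee800006ebe0000030ba0000017bb000000b1300000056220000029874000010509000007e90000003e04000001c8cfc0000d52dc00006270000002f7600000173400000097e00000048acb00001fa4000000dec0000006ebe000003528000001634c40000a8c000000530e8000026c280000132400) (pk61d (nat_lit 6) 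
    (nat_lit 0x298e075f868a5f61774f55c59b9ad89651320e34c1d049166679d54945a14800b2860c44562d06e87cd40a5911820434950862801d644e561a9855818a40831c44d14d2483df7545dd92e7da55375e59882789f8e5b30b69a6bbf1cb3) i2)) (pk61l (fun i3 => (pk61d (nat_lit 5) (Nat.add 
    (nat_lit 0x5323500443214c74254d8540110c8531d095b21500443214c74254e7d40110c8531d095b5f500443214c74296c7d40110c8531d09635d500443214c74296d7540110c8531d2a5b1d500443214c84a96c6d40110c8531d0952e7400443214c74254c9500110c8531d095363400443214c74256c8d00110c8531d0953a1400443214c74256d8500110c8531d0a5b21400443214c74256e7d00110c8531d09635f400443214c74296d7d00110c8531d2a5b1f400443214c74298d7500110c8531d2a5b5d400443214c84a96c7500110c853a12a5b1b400443214c74254d94c0110c8531d095b25300443214c74254e8cc0110c8531d095b63300443214c74296c8cc0110c8531d0953e1300443214c74256e84c0110c8531d096361300443214c74296d84c0110c8531d2a5b21300443214c74258e7cc0110c8531d0a5b9f300443214c74298d7cc0110c8531d2a5b5f300443214c84a96c7cc0110c8531d0b635d300443214c74a98d74c0110c853212a5b5d30044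3214e84a96c74c0110c863a12a5b1b300443214c74254f8c80110c8531d095ba3200443214c74258d8c80110c8531d0a5b63200443214c74a96c8c80110c8531d095be1200443214c74258e8480110c8531d0a5ba1200443214c74298d8480110c8531d2a5b61200443214c84a96c8480110c8531d096b9f200443214c74298e7c80110c8531d2a5b9f200443214c742d8d7c80110c8531d2a635f200443214c84a96d7c80110c853a12a5b1f200443214c74ad8d7480110c853212a635d200443214e84a96d7480110c863a12a5b1d200443298e84a96c6c80110c8531d0963e1100443214c74296f8440110c8531d096ba1100443214c74298e8440110c8531d2a5ba1100443214c742d8d8440110c8531d2a6361100443214c84a96d8440110c853a12a5b21100443214c7429ae7c40110c8531d0b639f100443214c74a98e7c40110c853212a5b9f100443214c74ad8d7c40110c853212a635f100443214e84a96d7c40110c863a12a5b1f100443214c752d8d7440110c853212b635d100443214e84a98d7440110c863a12a5b5d100443298e84a96c74401110a63a12a5b1b100443214c742dae7c00110c8531d2a6b9f000443214c74ad8e7c00110c853212a639f000443214e84a96e7c00110c8531d4b635f000443214c84ad8d7c00110c853a12a635f000443218e84a96d7c00110ca63a12a5b1f000443214c852d8d7400110c853a12b635d000443218e84a98d7400110ca63a12a5b5d000444298e84a96c74001190a63a12a5b1b000443214c952d8d73c0110c853a14b635cf00443218e84ad8d73c0110ca63a12a635cf00444298e84a96d73c01190a63a12a5b1cf00864298e84a96c6bc22190a63a12a5b1ae)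 (Nat.shiftLeft 
    (nat_lit 0x110c8531d0952e3600443214c74254c8580110c8531d09535f600443214c74256c7d80110c8531d095b5d600443214c74296c7580110c8531d2a5b1b600443214c74254b9540110c8531d09) (nat_lit 8000))) i3)) (Nat.mul (nat_lit 14) i2) (Nat.mul (nat_lit 14) (Nat.succ i2)) List.nil))) (g1 i1) (g1 (Nat.succ i1)) List.nil) fun j => (pk61d (nat_lit 7) 
    (nat_lit 0x1efa69b5197981004000) j))) (nat_lit 0) (nat_lit 10) List.nil) : List (List (ℕ × List ℕ)))
    = ?xq9009 → (List (List (ℕ × List ℕ)))) ?hq9009; (case hq9009 => (set_option maxRecDepth 1000000 in set_option simprocs false in conv => lhs; reduce; dsimp only)); intro _; exact ?xq9009 : List (List (ℕ × List ℕ)))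

/-- the partitions of `15` -/
def tb15 : List (List (ℕ × List ℕ)) :=
  (by
  refine (?fq9010 : ((pk61l (fun i1 => ((fun g1 : Nat → Nat => pk61l (fun i2 => (_root_.Prod.mk (pk61d (nat_lit 41) 
    (nat_lit 0x130777758000adfb1fa0000d8827700006b10b100000deb21400006b10b100001b40c200000ab4de800004ddd9800001b40c200000be5690000050faf0000026eecc00000dbf24000006a96e0000033e910000016b5f7000007c95c0000033e9100000163f5000000a17fc00000448590000020fdf000000e0f1f000006da280000035d54000001878d800000b6b98000005735a00000204cc000000e88f00000070cb00000033e910000018fe7000000c7560000005c8c8000002e24800000163f5000000a61d0000004ddd980000244140000011cc40000008e1e8000003b538000001cebe800000dff20000006ebe00000031d580000017fe8000000ba0c0000005c490000002b8180000015261000000a26c0000004e4f8000002398800000109c80000007c95c000003d860000001baf8000000db45000000675c00000031d580000017124000000b1fa800000513600000027de00000013c680000009b0a00000049d400000021390000000ffd08000007d4c0000003d860000001c7a0000000d8900000005eec0000002d1e00000015888000000a4100000004421e5)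 (pk61d (nat_lit 7) 
    (nat_lit 0x23b752993943e74e12469523380fd72c4444dae16402982a3c40a40a0ca0670592156a86120e68b8604041994210490062921a308da447c7898d1c4141624600041c04425243410f0e1492f566cfad792181842589862a4881c6a78b8c16750912895d2c4cb9cc296f952e64893b65ca58bb8afdbb87b0e54d8f12349993a7d0) i2)) (pk61l (fun i3 => (pk61d (nat_lit 5) (Nat.add 
    (nat_lit 0x298e84a9709500110c8531d09531f2a0022190a63a12a6ba5400443214c74256c74a8008864298e852d8d9500110c8531d0953211a0022190a63a12a6be3400443214c74256c7c68008864298e84adae8d00110c8531d0a5b1d1a0022190a63a54b6363400443214c74254e7c28008864298e84adaf8500110c8531d0a5b1f0a0022190a63a12c6ba1400443214c74296d7428008864298e952d8e8500110c853212a5b1b0a0022190a63a14c6b9f400443214c74a96d73e80088642990952d8e7d00110c853a12a5b1afa0022190c74254b635d400443214c74254b8ca6008864298e84a99094c0110c8531d09535f298022190a63a12b63e5300443214c74256d74a6008864298e852d8e94c0110c8531d2a5b1b298022190a63a12a6c23300443214c74256c8466008864298e84a9cf8cc0110c8531d095b5f198022190a63a14b63e33004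43214c74258d7466008864298e852dae8cc0110c8531d2a5b1d198022190a64254b6363300443214c74256e7c26008864298e84b1af84c0110c8531d0a5b5f098022190a63a54b63e1300443214c74298d7426008864298e952dae84c0110c853212a5b1d098022190a74254b6361300443214c742d8d73e6008864298e9531ae7cc0110c853212a5b5cf98022190a74254b639f300443218e84a96c6be600886531d0952d8d74c0110c8531d0953a1190022190a63a12b6c23200443214c74296c8464008864298e84adcf8c80110c8531d09635f190022190a63a14b6be3200443214c74a96c7c64008864298e8531ae8c80110c8531d2a5b5d190022190a64254b63a3200443214e84a96c6c64008864298e84b1cf8480110c8531d0a5b9f090022190a63a14c6be1200443214c74a96d7c240088642990952d8f8480110c8531d0b635d090022190a63a54c6ba1200443214c84a96d742400886429d0952d8e8480110c863a12a5b1b090022190a63a56c6b9f200443214c84a98d73e400886429d0952dae7c80110c863a12a5b1cf90022194c74254b635f200444298e84a96c6ba4008864298e84b5cf8440110c8531d0a639f088022190a63a54b73e1100443214c742d8d7c22008864298e9531af8440110c853212a5b5f088022190a74254b63e1100443214c74ad8d742200886429909531ae8440110c853a12a5b5d088022190c74254b63a1100443298e84a96c6c22008864298ea5b1ae7c40110c853212b635cf88022190a74254c6b9f100443218e84a96d73e200886531d0952d8e7c401110a63a12a5b1af88023214c74254b635d100443214c852d8d73e000886429d095b1ae7c00110c863a12a635cf80022194c74254b6b9f000444298e84a96c73e0008c8531d0952d8d7c002190a63a12a5b1ae80443214c74254b635cf)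 (Nat.shiftLeft 
    (nat_lit 0x110c8531d0952d94b0022190a63a12a5b67600443214c74254b74ac008864298e84a98d9580110c8531d0952df1b0022190a63a12a63a3600443214c74256c6c6c008864298e84a98f8580110c8531d09535d0b0022190a63a12b63a1600443214c74296c6c2c008864298e84adae7d80110c8531d0a5b1cfb0022190a63a54b635f600443214c84a96c6bac008864298e84a96da540110c8531d0952dd3a8022190a63a12a6367500443214c74254b7caa008864298e84a98e9540110c8531d095b1b2a8022190a63a12a5c23500443214c74254c7c6a008864298e84a9ae8d40110c8531d095b1d1a8022190a63a14b6363500443214c74254d7c2a008864298e84ad8f8540110c8531d095b5d0a8022190a63a14b63a1500443214c74a96c6c2a008864298e84b1ae7d40110c8531d0a5b5cfa8022190a63a54b639f500443214c84a96c6bea00886429d0952d8d7540110c8531d0952df3a0022190a63a12a63a7400443214c74256c6ce8008864) (nat_lit 8000))) i3)) (Nat.mul (nat_lit 15) i2) (Nat.mul (nat_lit 15) (Nat.succ i2)) List.nil))) (g1 i1) (g1 (Nat.succ i1)) List.nil) fun j => (pk61d (nat_lit 8) 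
    (nat_lit 0x92836e54361b08010000) j))) (nat_lit 0) (nat_lit 9) List.nil) : List (List (ℕ × List ℕ)))
    = ?xq9010 → (List (List (ℕ × List ℕ)))) ?hq9010; (case hq9010 => (set_option maxRecDepth 1000000 in set_option simprocs false in conv => lhs; reduce; dsimp only)); intro _; exact ?xq9010 : List (List (ℕ × List ℕ)))

/-- the partitions of `16` -/
def tb16 : List (List (ℕ × List ℕ)) :=
  let y0 : List (List (ℕ × List ℕ)) := (by
  refine (?fq9011 : (pk61l (fun i0 => ((fun g0 : Nat → Nat => pk61l (fun i1 => (_root_.Prod.mk (pk61d (nat_lit 33) 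
    (nat_lit 0xa61d00004ddd98000da0610002f7600002ad37a0018eac00002fda00001f25700009ab00000c7560000530e8000137766000766ec0003919f8001fa40000329cd600239880000448590002e83000020a12000084e4000062b80000ae6b40003b538000194e6b00158880002210f2807c95c000060e640000c756000084e40000298740003661e0004536c00004421e50013ef000007b0c00003f48000023b03b003b5380000ed4e000060e640004272000008a6d800061740000530e8000157c0000109c80002022900006ebe00002c7ea0000c2e80000ba0c0000476076001fa400001d8627803c8fe8001b30f000063ab0000399600003a23c00067d220019f488000) i1) (pk61l (fun i2 => (pk61d (nat_lit 5) 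
    (nat_lit 0x443214c74254b63eb600443214c74254b6bab600443214c74254b6429600443214c74254b6be9600443214c74254c6ba9600443214c74254b6467600443214c74254b6c27600443214c74254b73e7600443214c74254c6be7600443214c74256c6ba7600443214c74254b6c65600443214c74254b7425600443214c74254c6c25600443214c74254c73e5600443214c74256c6be5600443214c74296c6ba5600443214c74254b7c23600443214c74254c7423600443214c74256c6c23600443214c74254d73e3600443214c74256c73e3600443214c74296c6be3600443214c74a96c6ba3600443214c74256d73e1600443214c74296c73e1600443214c74a96c6be1600443214c84a96c6ba1600443214e84a96c6b9f600443214c74254b6469500443214c74254b6c29500443214c74254b73e9500443214c74254c6be9500443214c74256c6ba9500443214c74254b64a7500443214c74254b6c67500443214c74254b7427500443214c74254c6c27500443214c74254c73e7500443214c74256c6be7500443214c74296c6ba7500443214c74254b7465500443214c74254c6c65500443214c74254b7c25500443214c74254c7425500443214c74256c6c25500443214c74254d73e5500443214c74256c73e5500443214c74296c6be5500443214c74a96c6ba5500443214c74254c7c23500443214c74254d7423500443214c74256c7423500443214c74296c6c23500443214c74256d73e3500443214c74296c73e3500443214c74a96c6be3500443214c84a96c6ba3500443214c74258d73e1500443214c74296d73e1500443214c74a96c73e1500443214c84a96c6be1500443214e84a96c6ba1500443218e84a96c6b9f5)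 i2)) (Nat.mul (nat_lit 16) i1) (Nat.mul (nat_lit 16) (Nat.succ i1)) List.nil))) (g0 i0) (g0 (Nat.succ i0)) List.nil) fun j => (pk61d (nat_lit 6) 
    (nat_lit 0x3f8c0) j))) (nat_lit 0) (nat_lit 2) List.nil : List (List (ℕ × List ℕ)))
    = ?xq9011 → (List (List (ℕ × List ℕ)))) ?hq9011; (case hq9011 => (set_option maxRecDepth 1000000 in set_option simprocs false in conv => lhs; reduce; dsimp only)); intro _; exact ?xq9011 : List (List (ℕ × List ℕ)))
  (by
  refine (?fq9012 : (fun tl : List (List (ℕ × List ℕ)) => pk61l (fun i0 => ((fun g0 : Nat → Nat => pk61l (fun i1 => (_root_.Prod.mk (pk61d (nat_lit 45) 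
    (nat_lit 0x14c3a00000002b11000000011cc40000000e88f00000001f257000000163f500000013ef00000000530e800000041424000000828480000001baf8000000048acb000000375f0000000122b2c0000007c95c000000229b60000002242c8000000fd2000000007233f0000006ebe0000000f7708800000239880000000c1cc80000003d8600000001d9bb0000002398800000014c3a00000004d5800000002e830000000336a8000000766ec0000001569bd00000084e400000005e7a18000006d030800000d6216200003919f800000019f4880000001baf80000000e88f0000000427200000004731000000015888000000076a7000000027de000000013776600000182b8000000109c800000003e4ae000000261150000002b8180000006bf9400000014c3a00000002210f28000014c3a0000000c75600000002fda00000001f5300000002c7ea0000000bdd800000004af21580000375f00000004597a640000ae6b400000026eecc000000875a000000045c4800000039d7d0000004a0538000009bbb3000002ad37a00000004536c00000018399000000063ab0000000530e80000001b40c2000000b1fa80000008ec0ec00000e467e000000530e8000000122b2c0000009845400000082848000000b3f4c000001d8627800000229b60000000c7dae4000007c95c00000073fcbfc00009fe250000015bf63f40005cca33000000368184000000b5afb80000055a6f4000003d2e1c000003ddc220000058927680000bb5d35c0002898765000130777758000)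 i1) (pk61l (fun i2 => (pk61d (nat_lit 5) (Nat.add 
    (nat_lit 0x443214c74254b7467400443214c74254c6c67400443214c74254b7c27400443214c74254c7427400443214c74256c6c27400443214c74254d73e7400443214c74256c73e7400443214c74296c6be7400443214c74a96c6ba7400443214c74254b7c65400443214c74254c7465400443214c74256c6c65400443214c74254c7c25400443214c74254d7425400443214c74256c7425400443214c74296c6c25400443214c74256d73e5400443214c74296c73e5400443214c74a96c6be5400443214c84a96c6ba5400443214c74254d7c23400443214c74256c7c23400443214c74256d7423400443214c74296c7423400443214c74a96c6c23400443214c74258d73e3400443214c74296d73e3400443214c74a96c73e3400443214c84a96c6be3400443214e84a96c6ba3400443214c74298d73e1400443214c74a96d73e1400443214c84a96c73e1400443214e84a96c6be1400443218e84a96c6ba1400443298e84a96c6b9f400443214c74254b8465300443214c74254c7c65300443214c74254d7465300443214c74256c7465300443214c74296c6c65300443214c74254d7c25300443214c74256c7c25300443214c74256d7425300443214c74296c7425300443214c74a96c6c25300443214c74258d73e5300443214c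74296d73e5300443214c74a96c73e5300443214c84a96c6be5300443214e84a96c6ba5300443214c74254e7c23300443214c74256d7c23300443214c74296c7c23300443214c74258d7423300443214c74296d7423300443214c74a96c7423300443214c84a96c6c23300443214c74298d73e3300443214c74a96d73e3300443214c84a96c73e3300443214e84a96c6be3300443218e84a96c6ba3300443214c742d8d73e1300443214c74a98d73e1300443214c84a96d73e1300443214e84a96c73e1300443218e84a96c6be1300443298e84a96c6ba1300444298e84a96c6b9f300443214c74256e7c23200443214c74258d7c23200443214c74296d7c23200443214c74a96c7c23200443214c74298d7423200443214c74a96d7423200443214c84a96c7423200443214e84a96c6c23200443214c742d8d73e3200443214c74a98d73e3200443214c84a96d73e3200443214e84a96c73e3200443218e84a96c6be3200443298e84a96c6ba3200443214c74ad8d73e1200443214c84a98d73e1200443214e84a96d73e1200443218e84a96c73e1200443298e84a96c6be1200444298e84a96c6ba1200464298e84a96c6b9f200443214c752d8d73e1100443214c84ad8d73e1100443214e84a98d73e1100443218e84a96d73e1100443298e84a96c73e1100444298e84a96c6be1100464298e84a96c6ba1100864298e84a96c6b9f108864298e84a96c6b9f0)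 (Nat.shiftLeft 
    (nat_lit 0x443214c74254b6ca74) (nat_lit 8000))) i2)) (Nat.mul (nat_lit 16) i1) (Nat.mul (nat_lit 16) (Nat.succ i1)) List.nil))) (g0 i0) (g0 (Nat.succ i0)) List.nil) fun j => (pk61d (nat_lit 7) 
    (nat_lit 0x19601e1204000) j))) (nat_lit 0) (nat_lit 6) tl)
    = ?xq9012 → (List (List (ℕ × List ℕ)))) ?hq9012; (case hq9012 => (set_option maxRecDepth 1000000 in set_option simprocs false in conv => lhs; reduce; dsimp only)); intro _; exact ?xq9012 y0 : List (List (ℕ × List ℕ)))

/-- the partitions of `17` -/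
def tb17 : List (List (ℕ × List ℕ)) :=
  let y0 : List (List (ℕ × List ℕ)) := (by
  refine (?fq9013 : (pk61l (fun i0 => ((fun g0 : Nat → Nat => pk61l (fun i1 => (_root_.Prod.mk (pk61d (nat_lit 38) 
    (nat_lit 0xf23fa000009bbb3000018eac000004ddd9800014c3a000005f2b480005192d00000da06100000f92b8000033e91000015cd68000017bb000000890b200003e4ae0000082848000033e9100003505d4000067d22000008a6d80000354b7000008f8e000001f25700000459c0000022e24000008284800001da9c00000e946c00010a79300001377660000354b700000890b20000213900000143ebc00005f2b480000b1fa8000035fca00001e47f400023b03b000033e9100000a1f5e00003a23c00002210f28002242c80004bd67d6000048acb00000f92b80000245658000031d58000013776600003e4ae00000dd7c000001f25700000fdc8c00003e4ae00000e467e00007233f000086f79000019f48800000e88f000003e4ae000008f8e000004e4f800000c75600000229b6000005eec00000176ba6b800ed4e00000530e8000009c9f000003073200001c476000024565800003e4ae0000033e9100000ffd0800004ddd98000096640000031d5800002426e200004e4f800000f92b800005d4f800003bf4de0004ddd9800008ec0ec0000f92b8000040c8c00001b40c200011d81d8001377660002d80b1a000)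 i1) (pk61l (fun i2 => (pk61d (nat_lit 5) 
    (nat_lit 0x22190a63a12a5b1b3ad80110c8531d0952d8e956c008864298e84a96c7c6b600443214c74254b6ba35b0022190a63a12a5b5f0ad80110c8531d09531ae856c008864298e84ad8d73eb600443214c74254b63a74b0022190a63a12a5b1f2a580110c8531d0952dae952c008864298e84a96c8469600443214c74254b6be34b0022190a63a12a635d1a580110c8531d0952dcf852c008864298e84a98d7c29600443214c74256c6ba14b0022190a63a14b635cfa580110c8531d0952d9094ec008864298e84a96d7ca7600443214c74254c6ba53b0022190a63a12a5b6119d80110c8531d0952dcf8cec008864298e84a98d7c67600443214c74256c6ba33b0022190a63a12a639f09d80110c8531d095b1af84ec008864298e852d8d7427600443214c74a96c6b9f3b0022190a63a12a5ba119580110c8531d09531b08cac008864298e84a98e7c65600443214c74256c6be32b0022190a63a14b635d19580110c8531d09535cf84ac008864298e84ad8e7c25600443214c74296c6be12b0022190a63a54b635d09580110c853212a5b1ae7cac008864298e84adae7c23600443214c74296c73e11b0022190a63a54b635f08d80110c853212a5b1ae846c00886429d0952d8d73e3600443218e84a96c6b9f0b0022190a63a12a5b1f3a540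110c8531d0952dae9d2a008864298e84a96c84a9500443214c74254b6be54a8022190a63a12a635d2a540110c8531d0952db08d2a008864298e84a96e7c69500443214c74254c6be34a8022190a63a12b635d1a540110c8531d09531cf852a008864298e84ad8d7c29500443214c74296c6ba14a8022190a63a54b635cfa540110c8531d0952d9194ea008864298e84a96d84a7500443214c74254b73e53a8022190a63a12a635f29d40110c8531d095b1ae94ea008864298e84a96e8467500443214c74254c6c233a8022190a63a12a639f19d40110c8531d095b1af8cea008864298e852d8d7467500443214c74254d73e13a8022190a63a12b639f09d40110c8531d0a5b1af84ea008864298e952d8d7427500443214c84a96c6b9f3a8022190a63a12a5be119540110c8531d09531d08caa008864298e84ad8d8465500443214c74254d73e32a8022190a63a12b639f19540110c8531d0a5b1af8caa008864298e952d8d7465500443214c74256d73e12a8022190a63a14b639f09540110c8531d2a5b1af84aa0088642990952d8d7425500443214e84a96c6b9f2a8022190a63a12c6b9f08d40110c8531d0a5b5cf846a008864298e952d8e7c23500443214c84a96c6be11a8022190a74254b635d08d40110c863a12a5b1ae7c6a00886531d0952d8d73e15) i2)) (Nat.mul (nat_lit 17) i1) (Nat.mul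 (nat_lit 17) (Nat.succ i1)) List.nil))) (g0 i0) (g0 (Nat.succ i0)) List.nil) fun j => (pk61d (nat_lit 7) 
    (nat_lit 0x16d780) j))) (nat_lit 0) (nat_lit 2) List.nil : List (List (ℕ × List ℕ)))
    = ?xq9013 → (List (List (ℕ × List ℕ)))) ?hq9013; (case hq9013 => (set_option maxRecDepth 1000000 in set_option simprocs false in conv => lhs; reduce; dsimp only)); intro _; exact ?xq9013 : List (List (ℕ × List ℕ)))
  (by
  refine (?fq9014 : (fun tl : List (List (ℕ × List ℕ)) => pk61l (fun i0 => ((fun g0 : Nat → Nat => pk61l (fun i1 => (_root_.Prod.mk (pk61d (nat_lit 49) 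
    (nat_lit 0x33e910000000091596000000033e91000000015cd680000000b1fa80000000f4b8700000009159600000000f92b800000009bbb3000000063ab000000001839900000001050900000001878d800000007c95c000000031f6b9000000261150000000329cd60000008db72400000006d030800000026eecc0000000a17fc0000000890b200000002e24800000001308a80000000f92b800000019c66380000009bbb300000002242c8000000122b2c0000000fe82600000016b5f70000003f440b800000055a6f40000001f257000000013aec500000012bc856000001ac42c4000003ddc2200000127c48290000000f23fa00000004ddd9800000015cd6800000009bbb30000000a325a00000005735a00000001377660000000ab4de8000000a325a000000128ed700000002d6bee00000010a7930000000ab4de8000000a8b57400000103cfc2000002ed74d70000004421e50000000e467e00000006d03080000004f88be0000005345df0000007e88170000012bc856000005643fb6a0000011087940000005dae9ae000003588588000002b7ec7e8000030b6f46000004c1dddd60000adfb1fa0000286fddd9b001437eeecd8000) i1) (pk61l (fun i2 => (pk61d (nat_lit 5) 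
    (nat_lit 0x443214c74254b6c653a0022190a63a12a5ba129d00110c8531d09531b094e8008864298e84a98e7ca7400443214c74256c6be53a0022190a63a14b635d29d00110c8531d0952df08ce8008864298e84a98e8467400443214c74256c6c233a0022190a63a12a6b9f19d00110c8531d095b1cf8ce8008864298e852d8d7c67400443214c74a96c6ba33a0022190a63a12b6b9f09d00110c8531d0a5b1cf84e8008864298e952d8d7c27400443214c84a96c6ba13a0022190a74254b635cf9d00110c8531d09531f08ca8008864298e84a9ae8465400443214c74256c74232a0022190a63a14b636119500110c8531d095b5cf8ca8008864298e852d8e7c65400443214c74a96c6be32a0022190a64254b635d19500110c8531d09635cf84a8008864298e852dae7c25400443214c74a96c73e12a0022190a64254b635f09500110c853a12a5b1ae84a800886431d0952d8d73e5400443214c74298d73e11a0022190a63a54b6b9f08d00110c853212a5b1cf846800886429d0952d8d7c23400443218e84a96c6ba11a0022194c74254b635cf8d001110a63a12a5b1ae7c28008864298e84a9af8465300443214c74256c7c23298022190a63a12b6ba1194c0110c8531d0a5b1d08ca6008864298e952d8d8465300443214c74258d73e3298022190a63a14b6b9f194c0110c8531d2a5b1cf8ca60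088642990952d8d7c65300443214e84a96c6ba3298022190a63a14c6b9f094c0110c8531d2a5b5cf84a60088642990952d8e7c25300443214e84a96c6be1298022190c74254b635d094c0110ca63a12a5b1ae7ca6008864298e85b1ae7c23300443214c74a98d73e1198022190a64254b6b9f08cc0110c853a12a5b1cf846600886431d0952d8d7c23300443298e84a96c6ba1198022214c74254b635cf8cc01190a63a12a5b1ae7c26008864298e95b1ae7c23200443214c84a98d73e1190022190a74254b6b9f08c80110c863a12a5b1cf846400886531d0952d8d7c23200444298e84a96c6ba1190023214c74254b635cf8c802190a63a12a5b1ae7c24110c8531d0952d8d73e11) i2)) (Nat.mul (nat_lit 17) i1) (Nat.mul (nat_lit 17) (Nat.succ i1)) List.nil))) (g0 i0) (g0 (Nat.succ i0)) List.nil) fun j => (pk61d (nat_lit 7) 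
    (nat_lit 0x24211204000) j))) (nat_lit 0) (nat_lit 5) tl)
    = ?xq9014 → (List (List (ℕ × List ℕ)))) ?hq9014; (case hq9014 => (set_option maxRecDepth 1000000 in set_option simprocs false in conv => lhs; reduce; dsimp only)); intro _; exact ?xq9014 y0 : List (List (ℕ × List ℕ)))

/-- the partitions of `18` -/
def tb18 : List (List (ℕ × List ℕ)) :=
  let y0 : List (List (ℕ × List ℕ)) := (by
  refine (?fq9015 : (pk61l (fun i0 => (pk61l (fun i1 => (_root_.Prod.mk (pk61d (nat_lit 42) 
    (nat_lit 0x1b40c20000028e123000010af7c00000791fd0000004ac040000014c3a00000030732000001b30f000000530e8000000e998c8000029874000000a68bbe00006cc3c00000280b90000004c22a0000017fb8c00000e75f4000013aec5000000cc65af000012b0100000035d54000000b8920000002f95a40000215ef800000a3848c000008e620000002cf7a680000e998c800001c8cfc000009bbb300000774d1d0000134590800003e4ae00000180e7f0000105a0e000017b984500000a17fc000001d3319000003ce88000001a29b00000047607600000ed4e0000006269d900005345df00000fdc8c000001c08180000077f8800000354b70000026eecc0000383c7c0000026eecc0000071e0e1800024565800001190bd0a000cd90b00000f6791778027254d84000)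 i1) (pk61l (fun i2 => (pk61d (nat_lit 5) 
    (nat_lit 0x110c8531d0952d8d8d2b600443214c74254b63a14ad80110c8531d0952dae7d2b600443214c74254b63653ad80110c8531d0952d8e8ceb600443214c74254b63e13ad80110c8531d0952dae84eb600443214c74254c6b9f3ad80110c8531d0952d8f8cab600443214c74254b6ba32ad80110c8531d0952daf84ab600443214c74254c6ba12ad80110c8531d095b1ae7cab600443214c74254b73e11ad80110c8531d09531af846b600443214c74256c6ba11ad80110c8531d0a5b1ae7c6b600443214c74a96c6b9f0ad80110c8531d0952d8e94e9600443214c74254b63e33a580110c8531d0952dae8ce9600443214c74254b6be13a580110c8531d09531ae84e9600443214c74256c6b9f3a580110c8531d0952d908ca9600443214c74254b6be32a580110c8531d09531ae8ca9600443214c74254b73e12a580110c8531d09531af84a9600443214c74256c6ba12a580110c8531d0a5b1ae7ca9600443214c74254c73e11a580110c8531d095b1af8469600443214c74296c6ba11a580110c8531d2a5b1ae7c69600443214c84a96c6b9f0a580110c8531d0952db08ca7600443214c74254b73e329d80110c8531d09531af8ca7600443214c74256c6ba329d80110c8531d09531cf84a7600443214c74256c6be129d80110c8531d0a5b1ae84a7600443214c74a96c6b9f29d80110c8531d09535cf8467600443214c74256c73e119d80110c8531d0a5b1af8467600443214c74a96c6ba119d80110c853212a5b1ae7c67600443214e84a96c6b9f09d80110c8531d095b5cf8465600443214c74296c73e119580110c8531d2a5b1af8465600443214c84a96c6ba119580110c853a12a5b1ae7c65600443218e84a96c6b9f09580110ca63a12a5b1ae7c236)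 i2)) (Nat.mul (nat_lit 18) i1) (Nat.mul (nat_lit 18) (Nat.succ i1)) List.nil))) (nat_lit 0) (nat_lit 57) List.nil)) (nat_lit 0) (nat_lit 1) List.nil : List (List (ℕ × List ℕ)))
    = ?xq9015 → (List (List (ℕ × List ℕ)))) ?hq9015; (case hq9015 => (set_option maxRecDepth 1000000 in set_option simprocs false in conv => lhs; reduce; dsimp only)); intro _; exact ?xq9015 : List (List (ℕ × List ℕ)))
  (by
  refine (?fq9016 : (fun tl : List (List (ℕ × List ℕ)) => pk61l (fun i0 => ((fun g0 : Nat → Nat => pk61l (fun i1 => (_root_.Prod.mk (pk61d (nat_lit 53) 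
    (nat_lit 0xf23fa000000005d70500000000368184000000006632d7800000042bdf0000000034536000000000cfa440000000092d5100000000f4b87000000002eb8280000000114db00000000048acb000000003f7230000000016b5f7000000009845400000000807a6e0000000e0f1f00000000641ce800000001634c400000000bfdc600000000ad87700000001066f9800000033196bc0000000175c1400000000791fd00000000229b6000000000f9d19d00000010af7c00000000915960000000020a1200000000122b2c000000011ac9c0000000214f260000000054505830000001f25700000000144c3b28000001470918000000209f15ee0000063ed7200000000a68bbe0000000230a1e000000010def200000000c7dae40000000d621620000001516ae8000000351624900000112051e9c00000011087940000000198cb5e0000000e998c8000000082d07000000001e47f40000000125aa2000000016f14a800000005d7050000000023217a140000017cad200000001a18de58000003524ad80000000af3296000000025029c000000011fca900000000d8e94c0000000f090f6000000198cb5e000000504c84c00000002a282c18000000e998c8000000087518a6000000706b204000000827c57b800000d8827700000022a9074ce0000ab433321800000265310d00000007ce8ce80000003835902000000254819100000021d46298000002984a78c000004642f42800000ac87f6d400002ad0ccc8600016beecca730000)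 i1) (pk61l (fun i2 => (pk61d (nat_lit 5) 
    (nat_lit 0x443214c74254b63e53a540110c8531d0952dae94e9500443214c74254b64233a540110c8531d0952daf8ce9500443214c74254c6ba33a540110c8531d0952dcf84e9500443214c74254c6be13a540110c8531d095b1ae84e9500443214c74296c6b9f3a540110c8531d0952db08ca9500443214c74254b73e32a540110c8531d09531af8ca9500443214c74256c6ba32a540110c8531d09531cf84a9500443214c74256c6be12a540110c8531d0a5b1ae84a9500443214c74a96c6b9f2a540110c8531d09535cf8469500443214c74256c73e11a540110c8531d0a5b1af8469500443214c74a96c6ba11a540110c853212a5b1ae7c69500443214e84a96c6b9f0a540110c8531d0952dd08ca7500443214c74254c6c2329d40110c8531d09531cf8ca7500443214c74256c6be329d40110c8531d0a5b1ae8ca7500443214c74254d73e129d40110c8531d095b1cf84a7500443214c74296c6be129d40110c8531d2a5b1ae84a7500443214c84a96c6b9f29d40110c8531d095b5cf8467500443214c74296c73e119d40110c8531d2a5b1af8467500443214c84a96c6ba119d40110c853a12a5b1ae7c67500443218e84a96c6b9f09d40110c8531d09635cf8465500443214c74296d73e119540110c8531d2a5b1cf8465500443214c84a9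6c6be119540110c853a12a5b1ae8465500443218e84a96c6b9f19540110ca63a12a5b1ae7c25500444298e84a96c6b9f08d40110c8531d0952df08ca7400443214c74254c742329d00110c8531d095b1b08ca7400443214c74254d73e329d00110c8531d095b1cf8ca7400443214c74296c6be329d00110c8531d2a5b1ae8ca7400443214c74256d73e129d00110c8531d0a5b1cf84a7400443214c74a96c6be129d00110c853212a5b1ae84a7400443214e84a96c6b9f29d00110c8531d09635cf8467400443214c74296d73e119d00110c8531d2a5b1cf8467400443214c84a96c6be119d00110c853a12a5b1ae8467400443218e84a96c6b9f19d00110ca63a12a5b1ae7c27400443214c74298d73e119500110c8531d2a5b5cf8465400443214c84a96c73e119500110c853a12a5b1af8465400443218e84a96c6ba119500110ca63a12a5b1ae7c65400444298e84a96c6b9f095001190a63a12a5b1ae7c23400443214c742d8d73e1194c0110c8531d2a635cf8465300443214c84a96d73e1194c0110c853a12a5b1cf8465300443218e84a96c6be1194c0110ca63a12a5b1ae8465300444298e84a96c6b9f194c01190a63a12a5b1ae7c25300864298e84a96c6b9f08cc22190a63a12a5b1ae7c232) i2)) (Nat.mul (nat_lit 18) i1) (Nat.mul (nat_lit 18) (Nat.succ i1)) List.nil))) (g0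 i0) (g0 (Nat.succ i0)) List.nil) fun j => (pk61d (nat_lit 7) 
    (nat_lit 0x2a251404000) j))) (nat_lit 0) (nat_lit 5) tl)
    = ?xq9016 → (List (List (ℕ × List ℕ)))) ?hq9016; (case hq9016 => (set_option maxRecDepth 1000000 in set_option simprocs false in conv => lhs; reduce; dsimp only)); intro _; exact ?xq9016 y0 : List (List (ℕ × List ℕ)))

/-- the partitions of `19` -/
def tb19 : List (List (ℕ × List ℕ)) :=
  (by
  refine (?fq9017 : ((pk61l (fun i1 => ((fun g1 : Nat → Nat => pk61l (fun i2 => (_root_.Prod.mk (pk61d (nat_lit 57) 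
    (nat_lit 0x2210f280000000051c246000000003a6632000000001108794000000006d0308000000001d3319000000001ac42c400000000bae0a000000000504c84c0000000476076000000008b2f4c800000001377660000000006632d7800000001e47f4000000000de0fa800000000f4b870000000008c2878000000001fb9180000000011fca900000000121371000000002415be8000000006b10b10000000027f894000000001a9256c00000001badc5080000002ed74d70000000a099098000000006632d78000000009bbb300000000059ef4d0000000033196bc00000000be56900000000074cc640000000095206440000000268b21000000000e998c800000000a060a400000000b3de9a000000017b984500000000504c84c0000000110879400000000859e0c000000006632d78000000073fcbfc0000000cc65af00000002aa8a6860000000198cb5e000000008e5919e00000005345df000000004642f4280000005382c7800000008fc6a30600000187750728000008795332530000000198cb5e000000008843ca000000002210f2800000001ac42c4000000008843ca00000000358858800000002826426000000039fe5fe000000015e652c000000004af2158000000025790ac00000001dd3474000000024e7b16000000053094f1800000006b10b10000000025790ac000000016249da000000013077775800000176ba6b80000002b7ec7e800000093e2414800000005dae9ae00000001329886800000008b2f4c800000005dae9ae000000056fd8fd00000006eb71420000000c713091c000002240a3d3800000b4c6eedc40000000d2c8dc780000004642f428000000260eeeeb0000001c8b33304000001c8b3330400000260eeeeb00000045520e99c00000b5f76653980003004d772810001b02b9306890000)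 i2) (pk61l (fun i3 => (pk61d (nat_lit 5) (Nat.add 
    (nat_lit 0x8d2b600443214c74296c6b9f0a56c008864298e84a96c7c653ad80110c8531d0952dae8ca75b0022190a63a12a5b5f094eb600443214c74254c6ba129d6c008864298e84ad8d73e53ad80110c8531d0952dcf84675b0022190a63a12a635f08ceb600443214c74256c6ba119d6c008864298e852d8d73e33ad80110c8531d2a5b1ae7c275b0022190a63a12a639f08cab600443214c74256c6be11956c008864298e852d8d74232ad80110c8531d2a5b1ae7c655b0022190a64254b635cf84ab600443214e84a96c6b9f08d6c008864298e84a96c84653a580110c8531d0952daf8ca74b0022190a63a12a635d194e9600443214c74254b73e129d2c008864298e84a98d7c253a580110c8531d095b1ae84a74b0022190a63a14b635cf94e9600443214c74254c73e119d2c008864298e84ad8d7c233a580110c8531d0a5b1ae84674b0022190a63a54b635cf8ce9600443214c84a96c6b9f09d2c008864298e84a9ae7c232a580110c8531d095b1cf84654b0022190a63a14b635f08ca9600443214c74a96c6ba11952c0088642990952d8d73e32a580110c853a12a5b1ae7c254b0022190c74254b635cf8469600443214c74256d73e1194ec008864298e852d8e7c2329d80110c8531d2a5b1af84653b0022190a64254b63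5d08ca7600443214e84a96c6b9f194ec00886431d0952d8d73e129d80110ca63a12a5b1ae7c233b0022214c74254b635cf8465600443214c74254b6c2329d2a008864298e84a96e7c653a540110c8531d09531af8ca74a8022190a63a12b635d194e9500443214c74254c73e129d2a008864298e84ad8d7c253a540110c8531d0a5b1ae84a74a8022190a63a54b635cf94e9500443214c74254d73e119d2a008864298e84ad8e7c233a540110c8531d0a5b1af84674a8022190a63a54b635d08ce9500443214c84a96c6b9f19d2a00886429d0952d8d73e13a540110c8531d095b5cf84654a8022190a63a14b639f08ca9500443214c74a96c6be11952a0088642990952d8d74232a540110c853a12a5b1ae7c654a8022190c74254b635cf84a9500443298e84a96c6b9f08d2a008864298e84b1ae7c2329d40110c8531d0a5b5cf84653a8022190a63a54b639f08ca7500443214c84a96c6be1194ea00886429d0952d8d742329d40110c863a12a5b1ae7c653a8022194c74254b635cf84a7500444298e84a96c6b9f08cea008c8531d0952d8d73e119540110c8531d0a635cf84653a0022190a63a54b6b9f08ca7400443214c84a96c73e1194e800886429d0952d8d7c2329d00110c863a12a5b1ae84653a0022194c74254b635cf8ca7400444298e84a96c6b9f094e8008c8531d0952d8d73e119d002190a63a12a5b1ae7c232a0443214c74254b635cf84653)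 (Nat.shiftLeft 
    (nat_lit 0x110c8531d0952d8d8ce95b0022190a63a12a5b1d09d2b600443214c74254b6b9f3a56c008864298e84a96c74654ad80110c8531d0952d8f84a95b0022190a63a12a5b5d0952b600443214c74254c6b9f2a56c008864298e84a96d7c234ad80110c8531d09531ae84695b0022190a63a12b635cf) (nat_lit 8000))) i3)) (Nat.mul (nat_lit 19) i2) (Nat.mul (nat_lit 19) (Nat.succ i2)) List.nil))) (g1 i1) (g1 (Nat.succ i1)) List.nil) fun j => (pk61d (nat_lit 7) 
    (nat_lit 0x2f281404000) j))) (nat_lit 0) (nat_lit 5) List.nil) : List (List (ℕ × List ℕ)))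
    = ?xq9017 → (List (List (ℕ × List ℕ)))) ?hq9017; (case hq9017 => (set_option maxRecDepth 1000000 in set_option simprocs false in conv => lhs; reduce; dsimp only)); intro _; exact ?xq9017 : List (List (ℕ × List ℕ)))

/-- the partitions of `20` -/
def tb20 : List (List (ℕ × List ℕ)) :=
  (by
  refine (?fq9018 : ((pk61l (fun i1 => ((fun g1 : Nat → Nat => pk61l (fun i2 => (_root_.Prod.mk (pk61d (nat_lit 62) 
    (nat_lit 0x6632d78000000000ff7f1ac000000002210f28000000000751a41980000000395b3a4000000000f546d20000000001ac42c4000000000706b2040000000031b576c00000000289876500000000034b2371e0000000095e42b0000000002dab851a000000014c253c600000000e45999820000001190bd0a000000000ea34833000000001816f4a0000000005892768000000001e7258bc00000000ea34833000000009e2a1cc000000009f426db0000000123257085c00000001fefe3580000000055a19990c000000176ba6b8000000008eb7fff1400000049126e900000000328bd5501c0000030eea0e500000004807432bc180000ca2f554070000000083bd89cb00000000d2c8dc7800000002dab851a00000000e459998200000005f25554b800000033e5d16f0000000255391b540000002464ae10b80000032d7f32df20000071ba9ff43f000021c3677c82b40000)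 i2) (pk61l (fun i3 => (pk61d (nat_lit 5) 
    (nat_lit 0x443214c74254b63e329d2b600443214c74254b6ba329d2b600443214c74254b6be129d2b600443214c74254c6ba129d2b600443214c74256c6b9f29d2b600443214c74254b73e119d2b600443214c74254c6be119d2b600443214c74256c6ba119d2b600443214c74296c6b9f19d2b600443214c74a96c6b9f09d2b600443214c74254c73e11952b600443214c74256c6be11952b600443214c74296c6ba11952b600443214c74a96c6b9f1952b600443214c84a96c6b9f0952b600443214e84a96c6b9f08d2b600443214c74254d73e1194eb600443214c74256c73e1194eb600443214c74296c6be1194eb600443214c74a96c6ba1194eb600443214c84a96c6b9f194eb600443214e84a96c6b9f094eb600443218e84a96c6b9f08ceb600443298e84a96c6b9f08cab600443214c74256d73e1194e9600443214c74296c73e1194e9600443214c74a96c6be1194e9600443214c84a96c6ba1194e9600443214e84a96c6b9f194e9600443218e84a96c6b9f094e9600443298e84a96c6b9f08ce9600444298e84a96c6b9f08ca9600464298e84a96c6b9f08ca7600443214c74258d73e1194e9500443214c74296d73e1194e9500443214c74a96c73e1194e9500443214c84a96c6be1194e9500443214e84a96c6ba1194e9500443218e84a96c6b9f194e9500443298e84a96c6b9f094e9500444298e84a96c6b9f08ce9500464298e84a96c6b9f08ca9500864298e84a96c6b9f08ca7508864298e84a96c6b9f08ca74)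 i3)) (Nat.mul (nat_lit 20) i2) (Nat.mul (nat_lit 20) (Nat.succ i2)) List.nil))) (g1 i1) (g1 (Nat.succ i1)) List.nil) fun j => (pk61d (nat_lit 6) 
    (nat_lit 0x2c2c1000) j))) (nat_lit 0) (nat_lit 4) List.nil) : List (List (ℕ × List ℕ)))
    = ?xq9018 → (List (List (ℕ × List ℕ)))) ?hq9018; (case hq9018 => (set_option maxRecDepth 1000000 in set_option simprocs false in conv => lhs; reduce; dsimp only)); intro _; exact ?xq9018 : List (List (ℕ × List ℕ)))

/-- the partitions of `21` -/
def tb21 : List (List (ℕ × List ℕ)) :=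
  (by
  refine (?fq9019 : ((pk61l (fun i1 => ((fun g1 : Nat → Nat => pk61l (fun i2 => (_root_.Prod.mk (pk61d (nat_lit 66) 
    (nat_lit 0x316713ac2000000008072665920000000214d110da00000000bb517feca400000055a19990c0000000328bd5501c00000026fe28367c000000288415c89cd800003c060d4f214000008dce4c3e24f40002c5077d36b8c40000) i2) (pk61l (fun i3 => (pk61d (nat_lit 5) 
    (nat_lit 0x22190a63a12b6b9f08ca74ad80110c8531d0a5b1cf84653a56c008864298e952d8d7c2329d2b600443214c84a96c6ba1194e95b0022190a74254b635cf8ca74ad80110c863a12a5b1ae7c253a56c00886531d0952d8d73e119d2b600444298e84a96c6b9f08ca95b0023214c74254b635cf84653ad802190a63a12a5b1ae7c2329d2c110c8531d0952d8d73e1194e95) i3)) (Nat.mul (nat_lit 21) i2) (Nat.mul (nat_lit 21) (Nat.succ i2)) List.nil))) (g1 i1) (g1 (Nat.succ i1)) List.nil) fun j => (pk61d (nat_lit 4) 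
    (nat_lit 0xb100) j))) (nat_lit 0) (nat_lit 3) List.nil) : List (List (ℕ × List ℕ)))
    = ?xq9019 → (List (List (ℕ × List ℕ)))) ?hq9019; (case hq9019 => (set_option maxRecDepth 1000000 in set_option simprocs false in conv => lhs; reduce; dsimp only)); intro _; exact ?xq9019 : List (List (ℕ × List ℕ)))

/-- the partitions of `22` -/
def tb22 : List (List (ℕ × List ℕ)) :=
  (beta% delta% lq269ac25b0281 fun vqc0 vqc1 vqc2 _ =>
      (vqc0 vqc1
      (vqc0 (vqc0 (vqc2 1124000727777607680000 (vqc0 22 (vqc0 21 (vqc0 20 (vqc0 19 (vqc0 18 (vqc0 17 (vqc0 16 (vqc0 15 (vqc0 14 (vqc0 13 (vqc0 12 (vqc0 11 (vqc0 10 (vqc0 9 (vqc0 8 (vqc0 7 (vqc0 6 (vqc0 5 (vqc0 4 (vqc0 3 (vqc0 2 (vqc0 1 vqc1))))))))))))))))))))))) vqc1) vqc1)))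

/-- the table -/
def tb : List (List (List (ℕ × List ℕ))) :=
  (beta% delta% lq269ac25b0281 fun vqc0 vqc1 _ _ =>
      (vqc0 tb0 (vqc0 tb1 (vqc0 tb2 (vqc0 tb3 (vqc0 tb4 (vqc0 tb5 (vqc0 tb6 (vqc0 tb7 (vqc0 tb8 (vqc0 tb9 (vqc0 tb10 (vqc0 tb11 (vqc0 tb12 (vqc0 tb13 (vqc0 tb14 (vqc0 tb15 (vqc0 tb16 (vqc0 tb17 (vqc0 tb18 (vqc0 tb19 (vqc0 tb20 (vqc0 tb21 (vqc0 tb22 vqc1))))))))))))))))))))))))

end Cfsg.Agent.H704.DS
end

-- part: H704/DS/Level
section
/-!
# Enumeration of the degrees of `S_n` with a long first row (helper704)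

* `cover_T` : two primes `r < s` with `n < 2 r`, `s ≤ n` not dividing the degrees;
* `cover_L` : the degrees below a bound `B` with `LBs 1 K n B`;
* `Facts.kill_fast` : `n (n - 3)` does not divide `2 |K|` (`4 |K|`), `K = 3`.
-/

set_option autoImplicit false
set_option linter.unusedSectionVars false
set_option maxRecDepth 100000

universe u

namespace Cfsg.Agent.H704.DS

open Cfsg Subgroup Cfsg.Agent.H704
open Cfsg.Agent.Characters.Core
open Cfsg.Agent.M23Order.Base

/-! ### the table -/

/-- partitions of `r` with all parts at most `b` -/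
def pr : ℕ → ℕ → ℕ → List (List ℕ)
  | 0, _, _ => []
  | f + 1, r, b => if r = 0 then [[]] else
      (List.range (min b r)).flatMap fun i => (pr f (r - (i + 1)) (i + 1)).map fun t => (i + 1) :: t

theorem mem_pr : ∀ (t : List ℕ) (f r b : ℕ), Dec t → (∀ a ∈ t, 0 < a) → t.headD 0 ≤ b → t.sum = r → r < f →
    t ∈ pr f r b := by
  intro t
  induction t with
  | nil =>
    intro f r b _ _ _ h3 h4
    cases f with
    | zero => omega
    | succ f =>
      rw [List.sum_nil] at h3
      rw [pr, if_pos h3.symm]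
      simp
  | cons a t ih =>
    intro f r b h0 h1 h2 h3 h4
    cases f with
    | zero => omega
    | succ f =>
      have ha : 0 < a := h1 a (by simp)
      rw [List.sum_cons] at h3
      rw [List.headD_cons] at h2
      rw [pr, if_neg (by omega), List.mem_flatMap]
      refine ⟨a - 1, by rw [List.mem_range]; omega, ?_⟩
      rw [show a - 1 + 1 = a by omega, List.mem_map]
      refine ⟨t, ?_, rfl⟩
      refine ih f (r - a) a (dec_tail h0) (fun c hc => h1 c (List.mem_cons_of_mem _ hc)) ?_ (by omega) (by omega)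
      cases t with
      | nil => simp
      | cons c t => exact List.rel_of_pairwise_cons h0 (by simp)

/-- the entry of a partition -/
def ent (t : List ℕ) : ℕ × List ℕ :=
  (hookProd t, (List.range t.sum).map fun i => t.sum - 1 - i + t.getD i 0)

/-- the entries of the partitions of `k` with first part `m` -/
def row (k m : ℕ) : List (ℕ × List ℕ) := (tb.getD k []).getD m []

noncomputable def rowChk (k m : ℕ) : Bool :=
  row k m == (if k = 0 then [ent []] else (pr (k + 1) (k - m) m).map fun t => ent (m :: t))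

/-- `L` is the list of the numbers `k - 1 - i + t[i]`, `i < k` -/
private noncomputable def betaF (k : ℕ) : List ℕ → List ℕ → Bool :=
  Nat.rec (motive := fun _ => List ℕ → List ℕ → Bool) (fun L _ => L.isEmpty)
    (fun j ih L t => cond (Nat.beq (Nat.succ (Nat.add j (t.headD 0))) (List.rec 0 (fun x _ _ => Nat.succ x) L))
      (ih L.tail t.tail) false) k

private theorem betaF_spec : ∀ (k : ℕ) (L t : List ℕ), betaF k L t = true →
    L = (List.range k).map fun i => k - 1 - i + t.getD i 0
  | 0, L, _, h => List.isEmpty_iff.1 h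
  | _ + 1, [], _, h => absurd h Bool.false_ne_true
  | k + 1, x :: L, t, h => by
    replace h : cond (Nat.beq (k + t.headD 0 + 1) (x + 1)) (betaF k L t.tail) false = true := h
    cases h1 : Nat.beq (k + t.headD 0 + 1) (x + 1) with
    | false => rw [h1] at h; exact absurd h Bool.false_ne_true
    | true =>
      rw [h1, cond_true] at h
      have h2 := Nat.eq_of_beq_eq_true h1
      rw [List.range_succ_eq_map, List.map_cons, List.map_map, betaF_spec k L t.tail h]
      refine congrArg₂ _ ?_ (List.map_congr_left fun i _ => ?_)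
      · have h3 : t.getD 0 0 = t.headD 0 := by cases t <;> rfl
        rw [h3]; omega
      · have h3 : t.getD (i + 1) 0 = t.tail.getD i 0 := by cases t <;> rfl
        change _ = k + 1 - 1 - (i + 1) + t.getD (i + 1) 0
        rw [h3]; omega

/-- walk through `pr f r b` and compare with the front of `R` -/
private noncomputable def walkF (f : ℕ) :
    ℕ → ℕ → (List ℕ → List ℕ) → List (ℕ × List ℕ) → (List (ℕ × List ℕ) → Bool) → Bool :=
  Nat.rec (motive := fun _ => ℕ → ℕ → (List ℕ → List ℕ) → List (ℕ × List ℕ) → (List (ℕ × List ℕ) → Bool) → Bool)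
    (fun _ _ _ R k => k R)
    (fun _ W r b p R k => cond (Nat.beq r 0)
      (List.rec (motive := fun _ => Bool) false (fun e R' _ =>
        cond (Nat.beq e.1 (hookFast (p []))) (cond (betaF (p []).sum e.2 (p [])) (k R') false) false) R)
      (Nat.rec (motive := fun _ => ℕ → List (ℕ × List ℕ) → Bool) (fun _ R => k R)
        (fun _ ih i R => frcQ (Nat.succ i) fun a => frcQ (Nat.sub r a) fun r' => W r' a (fun t => p (a :: t)) R (ih a))
        (cond (Nat.ble b r) b r) 0 R)) f

private theorem walkF_spec : ∀ (f r b : ℕ) (p : List ℕ → List ℕ) (R : List (ℕ × List ℕ)) (k : List (ℕ × List ℕ) → Bool),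
    walkF f r b p R k = true → ∃ R', R = ((pr f r b).map fun t => ent (p t)) ++ R' ∧ k R' = true := by
  intro f
  induction f with
  | zero => exact fun _ _ _ R _ h => ⟨R, rfl, h⟩
  | succ f W =>
    intro r b p R k h
    have loop : ∀ (n i : ℕ) (R : List (ℕ × List ℕ)),
        Nat.rec (motive := fun _ => ℕ → List (ℕ × List ℕ) → Bool) (fun _ R => k R)
          (fun _ ih i R => frcQ (Nat.succ i) fun a => frcQ (Nat.sub r a) fun r' =>
            walkF f r' a (fun t => p (a :: t)) R (ih a)) n i R = true →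
        ∃ R', R = (((List.range' i n).flatMap fun i => (pr f (r - (i + 1)) (i + 1)).map fun t => (i + 1) :: t).map
          fun t => ent (p t)) ++ R' ∧ k R' = true := by
      intro n
      induction n with
      | zero => exact fun _ R h => ⟨R, rfl, h⟩
      | succ n ih =>
        intro i R h
        replace h := (frcQ_eq _ _).symm.trans h
        replace h := (frcQ_eq _ _).symm.trans h
        obtain ⟨R1, h1, h2⟩ := W _ _ _ _ _ h
        obtain ⟨R2, h3, h4⟩ := ih _ _ h2
        refine ⟨R2, ?_, h4⟩
        rw [List.range'_succ, List.flatMap_cons, List.map_append, List.map_map, List.append_assoc, ← h3]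
        exact h1
    rw [pr]
    cases h0 : Nat.beq r 0 with
    | false =>
      rw [if_neg (Nat.ne_of_beq_eq_false h0), List.range_eq_range']
      have h1 : min b r = cond (Nat.ble b r) b r := by
        cases h2 : Nat.ble b r with
        | true => exact min_eq_left (Nat.le_of_ble_eq_true h2)
        | false => exact min_eq_right (Nat.le_of_not_le fun h3 => by rw [Nat.ble_eq_true_of_le h3] at h2; cases h2)
      rw [h1]
      refine loop _ 0 R ?_
      replace h : cond (Nat.beq r 0) _ _ = true := h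
      rw [h0] at h
      exact h
    | true =>
      rw [if_pos (Nat.eq_of_beq_eq_true h0)]
      replace h : cond (Nat.beq r 0) _ _ = true := h
      rw [h0, cond_true] at h
      cases R with
      | nil => exact absurd h Bool.false_ne_true
      | cons e R =>
        replace h : cond (Nat.beq e.1 (hookFast (p []))) (cond (betaF (p []).sum e.2 (p [])) (k R) false) false = true := h
        cases h1 : Nat.beq e.1 (hookFast (p [])) with
        | false => rw [h1] at h; exact absurd h Bool.false_ne_true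
        | true =>
          rw [h1, cond_true] at h
          cases h2 : betaF (p []).sum e.2 (p []) with
          | false => rw [h2] at h; exact absurd h Bool.false_ne_true
          | true =>
            rw [h2, cond_true] at h
            refine ⟨R, congrArg (· :: R) (Prod.ext ?_ (betaF_spec _ _ _ h2)), h⟩
            rw [← hookFast_eq] at h1
            exact Nat.eq_of_beq_eq_true h1

theorem tb_ok : ((List.range 23).all fun k => (List.range (k + 1)).all fun m =>
    (k != 0 && m == 0) || (Nat.blt 12 k && Nat.blt 23 (k + m)) || rowChk k m) = true := by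
  have h : ((List.range 23).all fun k => (List.range (k + 1)).all fun m =>
      (k != 0 && m == 0) || (Nat.blt 12 k && Nat.blt 23 (k + m)) ||
        cond (Nat.beq k 0) (rowChk k m) (walkF (k + 1) (k - m) m (fun t => m :: t) (row k m) List.isEmpty)) = true := by decide +kernel
  rw [List.all_eq_true] at h ⊢
  intro k hk
  have h1 := h k hk
  rw [List.all_eq_true] at h1 ⊢
  intro m hm
  have h2 := h1 m hm
  rw [Bool.or_eq_true] at h2 ⊢
  refine h2.imp id fun h3 => ?_
  cases h4 : Nat.beq k 0 with
  | true => rwa [h4] at h3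
  | false =>
    rw [h4, cond_false] at h3
    obtain ⟨R, h5, h6⟩ := walkF_spec _ _ _ _ _ _ h3
    rw [List.isEmpty_iff.1 h6, List.append_nil] at h5
    rw [rowChk, if_neg (Nat.ne_of_beq_eq_false h4), ← h5]
    exact beq_self_eq_true _

theorem mem_row {t : List ℕ} (h0 : Dec t) (h1 : ∀ a ∈ t, 0 < a) (h : t.sum ≤ 12 ∨ t.sum + t.headD 0 ≤ 23) :
    ent t ∈ row t.sum (t.headD 0) := by
  cases t with
  | nil =>
    have h2 := List.all_eq_true.1 tb_ok 0 (by simp)
    have h3 := List.all_eq_true.1 h2 0 (by simp)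
    have h4 : rowChk 0 0 = true := by simpa using h3
    rw [rowChk, if_pos rfl, beq_iff_eq] at h4
    rw [List.sum_nil, List.headD_nil, h4]
    simp
  | cons a t =>
    have ha : 0 < a := h1 a (by simp)
    rw [List.sum_cons, List.headD_cons] at *
    have h2 := List.all_eq_true.1 tb_ok (a + t.sum) (by rw [List.mem_range]; omega)
    have h3 := List.all_eq_true.1 h2 a (by rw [List.mem_range]; omega)
    have h5 : (a + t.sum != 0 && a == 0) = false := by
      have : (a == 0) = false := by simpa using ha.ne'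
      rw [this, Bool.and_false]
    have h6 : (Nat.blt 12 (a + t.sum) && Nat.blt 23 (a + t.sum + a)) = false := by
      rw [Bool.eq_false_iff]
      intro h7
      rw [Bool.and_eq_true, Nat.blt_eq, Nat.blt_eq] at h7
      omega
    rw [h5, h6, Bool.false_or, Bool.false_or, rowChk, if_neg (by omega), beq_iff_eq] at h3
    rw [h3, List.mem_map]
    refine ⟨t, ?_, rfl⟩
    refine mem_pr t _ _ _ (dec_tail h0) (fun c hc => h1 c (List.mem_cons_of_mem _ hc)) ?_ (by omega) (by omega)
    cases t with
    | nil => simp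
    | cons c t => exact List.rel_of_pairwise_cons h0 (by simp)

/-- `∏ (n - c)` -/
noncomputable def prodR (n : ℕ) (l : List ℕ) : ℕ := List.rec (motive := fun _ => ℕ) 1 (fun c _ ih => (n - c) * ih) l

theorem prodR_eq (n : ℕ) (l : List ℕ) : prodR n l = (l.map fun c => n - c).prod := by
  induction l with
  | nil => rfl
  | cons c l ih =>
    rw [List.map_cons, List.prod_cons, ← ih]
    rfl

/-- the degree -/
noncomputable def ev (n : ℕ) (x : ℕ × List ℕ) : ℕ := Nat.div (prodR n x.2) x.1

theorem ev_ent {a : ℕ} {t : List ℕ} {n d : ℕ} (hl : IsPart (a :: t) n) (hd : d * hookProd (a :: t) = n.factorial) :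
    ev n (ent t) = d := by
  have h := deg_roots hl hd
  rw [ev, ent, prodR_eq]
  simp only [List.map_map]
  have h1 : ((List.range t.sum).map ((fun c => n - c) ∘ fun i => t.sum - 1 - i + t.getD i 0)).prod =
      d * hookProd t := by
    rw [h, Finset.prod_range]
    rw [← List.prod_ofFn, List.ofFn_eq_map]
    congr 1
    rw [← List.map_coe_finRange_eq_range, List.map_map]
    rfl
  rw [h1]
  exact Nat.mul_div_cancel d (hookProd_pos (dec_tail hl.sorted))

/-! ### two primes -/

/-- enumeration for two primes -/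
noncomputable def TE (W n : ℕ) (chk : ℕ → Bool) : Bool :=
  (List.range W).all fun k => (List.range (min k (W - k) + 1)).all fun m => (row k m).all fun x => chk (ev n x)

theorem cover_T {n r s W : ℕ} (hr : r.Prime) (hs : s.Prime) (hrs : r < s) (h1 : n < 2 * r) (h2 : s ≤ n)
    (hW : 2 * n + 1 ≤ W + r + s) (hW23 : W ≤ 23) : Cover n (fun d => ¬ r ∣ d ∧ ¬ s ∣ d) (TE W n) := by
  rintro chk h d ⟨l0, hl0, hd0⟩ ⟨h3, h4⟩
  obtain ⟨l, hl, hd, g1, g2, g3⟩ := exists_two_hooks hl0 hd0 hr hs hrs h1 h2 h3 h4
  cases l with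
  | nil => simp at g3
  | cons a t =>
    have hp : ∀ c ∈ t, 0 < c := fun c hc => hl.pos c (List.mem_cons_of_mem _ hc)
    have hsum : a + t.sum = n := by have := hl.sum; rwa [List.sum_cons] at this
    have hk : t.sum + t.headD 0 ≤ W := by
      cases t with
      | nil => simp
      | cons b t =>
        have h5 := rows_of_hooks hl g1 g2 (by
          have := hp b (by simp)
          simpa using this)
        simp only [List.getD_cons_succ, List.getD_cons_zero, List.headD_cons] at h5 ⊢
        omega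
    have hm : t.headD 0 ≤ t.sum := by
      cases t with
      | nil => simp
      | cons b t => simp
    have hk1 : t.sum < W := by
      cases t with
      | nil =>
        rw [List.sum_nil]
        omega
      | cons b t =>
        have := hp b (by simp)
        rw [List.headD_cons] at hk
        omega
    have h6 := mem_row (dec_tail hl.sorted) hp (Or.inr (by omega))
    rw [TE, List.all_eq_true] at h
    have h7 := h t.sum (List.mem_range.2 hk1)
    rw [List.all_eq_true] at h7
    have h8 := h7 (t.headD 0) (by rw [List.mem_range]; omega)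
    rw [List.all_eq_true] at h8
    have h9 := h8 _ h6
    rwa [ev_ent hl hd] at h9

theorem base2_T {two : Bool} {N r s : ℕ} {S : List (ℕ × ℕ)} (hr : r.Prime) (hs : s.Prime) (hr2 : r ≠ 2) (hs2 : s ≠ 2)
    (h1 : ¬ r ∣ N) (h2 : ¬ s ∣ N) : Base2 two N S fun d => ¬ r ∣ d ∧ ¬ s ∣ d := by
  intro d hd
  have key : ∀ q : ℕ, q.Prime → q ≠ 2 → ¬ q ∣ N → q ∣ d →
      base N S d = true ∧ (two = true → d % 2 = 0 → base N S (d / 2) = true) := by
    intro q hq hq2 hqN hqd
    have hb : ∀ e : ℕ, q ∣ e → base N S e = true := by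
      intro e he
      have : N % e ≠ 0 := fun h0 => hqN (he.trans (Nat.dvd_of_mod_eq_zero h0))
      unfold base
      have h3 : (N % e != 0) = true := by simpa using this
      rw [h3]; simp
    refine ⟨hb d hqd, fun _ h2 => hb _ ?_⟩
    obtain ⟨c, rfl⟩ := Nat.dvd_of_mod_eq_zero h2
    rw [Nat.mul_div_cancel_left _ (by norm_num)]
    rcases (hq.dvd_mul).1 hqd with h | h
    · exact absurd ((Nat.prime_dvd_prime_iff_eq hq Nat.prime_two).1 h) hq2
    · exact h
  by_cases h3 : r ∣ d
  · exact key r hr hr2 h1 h3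
  · have h4 : s ∣ d := by
      by_contra h4
      exact hd ⟨h3, h4⟩
    exact key s hs hs2 h2 h4

/-! ### lower bounds -/

/-- enumeration with a lower bound -/
noncomputable def LE (K n : ℕ) (chk : ℕ → Bool) : Bool :=
  (List.range K).all fun k => (List.range (k + 1)).all fun m => (row k m).all fun x => chk (ev n x)

theorem le_mem {K n : ℕ} {chk : ℕ → Bool} (hK : K ≤ 13) (h : LE K n chk = true) {l : List ℕ} {d : ℕ}
    (hl : IsPart l n) (hd : d * hookProd l = n.factorial) (hh : n - K < l.headD 0) : chk d = true := by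
  cases l with
  | nil => simp at hh
  | cons a t =>
    have hp : ∀ c ∈ t, 0 < c := fun c hc => hl.pos c (List.mem_cons_of_mem _ hc)
    have hsum : a + t.sum = n := by have := hl.sum; rwa [List.sum_cons] at this
    rw [List.headD_cons] at hh
    have hm : t.headD 0 ≤ t.sum := by
      cases t with
      | nil => simp
      | cons b t => simp
    have h6 := mem_row (dec_tail hl.sorted) hp (Or.inl (by omega))
    rw [LE, List.all_eq_true] at h
    have h7 := h t.sum (List.mem_range.2 (by omega))
    rw [List.all_eq_true] at h7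
    have h8 := h7 (t.headD 0) (by rw [List.mem_range]; omega)
    rw [List.all_eq_true] at h8
    have h9 := h8 _ h6
    rwa [ev_ent hl hd] at h9

theorem cover_L {n K B : ℕ} (hK : K ≤ 13) (hB : LBs 1 K n B) : Cover n (fun d => d < B) (LE K n) := by
  rintro chk h d ⟨l, hl, hd⟩ hdB
  by_cases h1 : n - K < l.headD 0
  · exact le_mem hK h hl hd h1
  by_cases h2 : n - K < colLen l 0
  · refine le_mem hK h (isPart_transpose hl) (by rw [hookProd_transpose hl, hd]) ?_
    rw [headD_eq_getD, getD_transpose hl.sorted]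
    exact h2
  · exfalso
    have := hB l d hl.sorted hl.sum hd (by omega) (by omega)
    omega

theorem base2_L {two : Bool} {N B : ℕ} {S : List (ℕ × ℕ)} (hB : (if two = true then 4 else 1) * N ≤ B * B) :
    Base2 two N S fun d => d < B := by
  intro d hd
  rw [not_lt] at hd
  have h1 : B * B ≤ d * d := Nat.mul_le_mul hd hd
  have hb : ∀ e : ℕ, N ≤ e * e → base N S e = true := by
    intro e he
    unfold base
    rw [Nat.ble_eq_true_of_le he]
    simp
  refine ⟨hb d ?_, fun h2 h3 => hb _ ?_⟩
  · refine le_trans ?_ (hB.trans h1)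
    split_ifs <;> omega
  · rw [if_pos h2] at hB
    obtain ⟨c, rfl⟩ := Nat.dvd_of_mod_eq_zero h3
    rw [Nat.mul_div_cancel_left _ (by norm_num)]
    have : 2 * c * (2 * c) = 4 * (c * c) := by ring
    omega

variable {K : Type u} [Group K] [Finite K] {N n : ℕ} {P : List ℕ} {S : List (ℕ × ℕ)} {two : Bool}

/-- **the check with two primes** -/
theorem Facts.kill_T (F : Facts K N P S) (hd : DegM two n K) {r s W : ℕ} (hr : r.Prime) (hs : s.Prime)
    (hr2 : r ≠ 2) (hrs : r < s) (h1 : n < 2 * r) (h2 : s ≤ n) (hrN : ¬ r ∣ N) (hsN : ¬ s ∣ N)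
    (hW : 2 * n + 1 ≤ W + r + s) (hW23 : W ≤ 23) (h : kill two N P S (TE W n) = true) : False :=
  F.killed hd (cover_T hr hs hrs h1 h2 hW hW23) (base2_T hr hs hr2 (by have := hr.two_le; omega) hrN hsN) h

/-- **the check with a lower bound** -/
theorem Facts.kill_L (F : Facts K N P S) (hd : DegM two n K) {L B : ℕ} (hL : L ≤ 13) (hB : LBs 1 L n B)
    (hN : (if two = true then 4 else 1) * N ≤ B * B) (h : kill two N P S (LE L n) = true) : False :=
  F.killed hd (cover_L hL hB) (base2_L hN) h

/-- **the fast check for large `n`** -/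
theorem Facts.kill_fast (F : Facts K N P S) (hd : DegM two n K) (hn : 9 ≤ n) (hP : P ≠ []) {B : ℕ}
    (hB : LBs 1 3 n B) (hN : (if two = true then 4 else 1) * N ≤ B * B)
    (h : (if two = true then 4 else 2) * N % (n * (n - 3)) ≠ 0) : False := by
  -- the degrees
  have hdeg : ∀ d, IsDeg n d → d < B → d = 1 ∨ d = n - 1 ∨ 2 * d = (n - 1) * (n - 2) ∨ 2 * d = n * (n - 3) := by
    intro d h1 h2
    have h3 := cover_L (K := 3) (by norm_num) hB
      (fun d => decide (d = 1 ∨ d = n - 1 ∨ 2 * d = (n - 1) * (n - 2) ∨ 2 * d = n * (n - 3))) ?_ d h1 h2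
    · simpa using h3
    · have e00 : row 0 0 = [(1, [])] := rfl
      have e10 : row 1 0 = [] := rfl
      have e11 : row 1 1 = [(1, [1])] := rfl
      have e20 : row 2 0 = [] := rfl
      have e21 : row 2 1 = [(2, [2, 1])] := rfl
      have e22 : row 2 2 = [(2, [3, 0])] := rfl
      have p0 : ev n (1, []) = 1 := Nat.div_one 1
      have p1 : ev n (1, [1]) = n - 1 := by
        show Nat.div ((n - 1) * 1) 1 = n - 1
        rw [mul_one]; exact Nat.div_one _
      have p2 : ev n (2, [2, 1]) = (n - 1) * (n - 2) / 2 := by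
        show ((n - 2) * ((n - 1) * 1)) / 2 = _
        rw [mul_one, mul_comm]
      have p3 : ev n (2, [3, 0]) = n * (n - 3) / 2 := by
        show ((n - 3) * ((n - 0) * 1)) / 2 = _
        rw [mul_one, mul_comm, Nat.sub_zero]
      have q2 : 2 * ((n - 1) * (n - 2) / 2) = (n - 1) * (n - 2) := by
        apply Nat.mul_div_cancel'
        obtain ⟨m, rfl⟩ := Nat.exists_eq_add_of_le hn
        rw [show 9 + m - 1 = m + 8 by omega, show 9 + m - 2 = m + 7 by omega]
        rcases Nat.even_or_odd m with ⟨c, hc⟩ | ⟨c, hc⟩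
        · exact Dvd.dvd.mul_right ⟨c + 4, by omega⟩ _
        · exact Dvd.dvd.mul_left ⟨c + 4, by omega⟩ _
      have q3 : 2 * (n * (n - 3) / 2) = n * (n - 3) := by
        apply Nat.mul_div_cancel'
        obtain ⟨m, rfl⟩ := Nat.exists_eq_add_of_le hn
        rw [show 9 + m - 3 = m + 6 by omega]
        rcases Nat.even_or_odd m with ⟨c, hc⟩ | ⟨c, hc⟩
        · exact Dvd.dvd.mul_left ⟨c + 3, by omega⟩ _
        · exact Dvd.dvd.mul_right ⟨c + 5, by omega⟩ _
      simp only [LE, List.range_succ, List.range_zero, List.nil_append, List.all_cons, List.all_nil, List.all_append,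
        Bool.and_true, e00, e10, e11, e20, e21, e22, p0, p1, p2, p3, q2, q3, true_or, or_true, decide_true,
        Bool.and_self]
  -- the degrees of `K`
  have key : ∀ (ψ : K → ℂ) (e : ℕ), IsIrrCharacter K ψ → ψ 1 = e → e ≠ 1 →
      ∃ d, (d = e ∨ d = 2 * e) ∧ (d = n - 1 ∨ 2 * d = (n - 1) * (n - 2)) := by
    intro ψ e hψ he h1
    obtain ⟨d, h2, h3⟩ := hd.nat hψ he
    have h4 := sq_lt_card hψ he h1
    have h5 := dvd_card hψ he
    rw [F.card] at h4 h5
    have h6 : d < B := by
      by_contra hcon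
      rw [not_lt] at hcon
      have h7 := Nat.mul_le_mul hcon hcon
      rcases h3 with rfl | ⟨rfl, rfl⟩
      · have : N ≤ (if two = true then 4 else 1) * N := by split_ifs <;> omega
        omega
      · have h8 : 2 * e * (2 * e) = 4 * (e * e) := by ring
        simp only [if_true] at hN
        omega
    rcases hdeg d h2 h6 with h7 | h7 | h7 | h7
    · exfalso; omega
    · exact ⟨d, by omega, Or.inl h7⟩
    · exact ⟨d, by omega, Or.inr h7⟩
    · exfalso
      apply h
      apply Nat.mod_eq_zero_of_dvd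
      rw [← h7]
      rcases h3 with rfl | ⟨rfl, rfl⟩
      · split_ifs
        · exact (Nat.mul_dvd_mul_left 2 h5).trans ⟨2, by ring⟩
        · exact Nat.mul_dvd_mul_left 2 h5
      · rw [if_pos rfl, ← mul_assoc]
        exact Nat.mul_dvd_mul_left 4 h5
  obtain ⟨p, hp, hpk⟩ : ∃ p : ℕ, p.Prime ∧ ∀ e d : ℕ, (d = e ∨ d = 2 * e) →
      (d = n - 1 ∨ 2 * d = (n - 1) * (n - 2)) → p ∣ e := by
    by_cases hodd : ∃ p : ℕ, p.Prime ∧ p ≠ 2 ∧ p ∣ n - 1
    · obtain ⟨p, hp, hp2, hpn⟩ := hodd
      have hp2' : ∀ x, p ∣ 2 * x → p ∣ x := by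
        intro x hx
        rcases (hp.dvd_mul).1 hx with h | h
        · exact absurd ((Nat.prime_dvd_prime_iff_eq hp Nat.prime_two).1 h) hp2
        · exact h
      refine ⟨p, hp, ?_⟩
      intro e d h1 h2
      have h3 : p ∣ d := by
        rcases h2 with h2 | h2
        · rw [h2]; exact hpn
        · apply hp2'
          rw [h2]
          exact hpn.mul_right _
      rcases h1 with rfl | rfl
      · exact h3
      · exact hp2' _ h3
    · push Not at hodd
      refine ⟨2, Nat.prime_two, ?_⟩
      obtain ⟨a, ha⟩ : ∃ a, n - 1 = 2 ^ a := ⟨_, Nat.eq_prime_pow_of_unique_prime_dvd (p := 2) (by omega) (by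
        intro q hq hqn
        by_contra hq2
        exact hodd q hq hq2 hqn)⟩
      have ha3 : 3 ≤ a := by
        by_contra hcon
        have : a ≤ 2 := by omega
        have h2 : 2 ^ a ≤ 2 ^ 2 := Nat.pow_le_pow_right (by norm_num) this
        omega
      obtain ⟨b, rfl⟩ := Nat.exists_eq_add_of_le ha3
      have h8 : n - 1 = 8 * 2 ^ b := by rw [ha, pow_add]; norm_num
      intro e d h1 h2
      have h9 : n - 2 = 8 * 2 ^ b - 1 := by omega
      rcases h2 with h2 | h2
      · have : d = 8 * 2 ^ b := by omega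
        omega
      · rw [h8, h9, show 8 * 2 ^ b * (8 * 2 ^ b - 1) = 8 * (2 ^ b * (8 * 2 ^ b - 1)) by ring] at h2
        omega
  obtain ⟨q, hq⟩ := List.exists_mem_of_ne_nil _ hP
  obtain ⟨g1, g2⟩ := F.prime q hq
  obtain ⟨ψ, e, h1, h2, h3, -, h5, -⟩ := H621.SymDeg.exists_irr_not_dvd F.perfect g1 (by rw [F.card]; exact g2)
  obtain ⟨d, k1, k2⟩ := key ψ e h1 h2 (by omega)
  have h6 := hpk e d k1 k2
  obtain ⟨ψ', e', k1, k2, k3, k4, -, -⟩ := H621.SymDeg.exists_irr_not_dvd F.perfect hp (h6.trans h5)
  obtain ⟨d', k5, k6⟩ := key ψ' e' k1 k2 (by omega)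
  exact k4 (hpk e' d' k5 k6)

end Cfsg.Agent.H704.DS
end

-- part: H704/DS/Row
section
/-!
# Kernel check of whole ranges of `n` (helper704)

`Facts.of_segs` : a list of segments, checked by the kernel, kills all `n` in the range covered.
-/

set_option autoImplicit false
set_option linter.unusedSectionVars false
set_option maxRecDepth 100000

universe u

namespace Cfsg.Agent.H704.DS

open Cfsg Subgroup Cfsg.Agent.H704

/-- primality test -/
def isP (r : ℕ) : Bool := Nat.ble 2 r && (List.range r).all fun k => Nat.ble k 1 || (r % k != 0)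

theorem prime_of_isP {r : ℕ} (h : isP r = true) : r.Prime := by
  rw [isP, Bool.and_eq_true, List.all_eq_true] at h
  have h2 := Nat.le_of_ble_eq_true h.1
  rw [Nat.prime_def_lt]
  refine ⟨h2, ?_⟩
  intro m hm hd
  have h3 := h.2 m (List.mem_range.2 hm)
  rw [Bool.or_eq_true] at h3
  rcases h3 with h3 | h3
  · have h4 := Nat.le_of_ble_eq_true h3
    rcases Nat.eq_zero_or_pos m with rfl | h5
    · rw [Nat.zero_dvd] at hd; omega
    · omega
  · simp only [bne_iff_ne, ne_eq] at h3
    exact absurd (Nat.mod_eq_zero_of_dvd hd) h3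

/-- `f` on `hi - k, ..., hi - 1` -/
noncomputable def rg (f : ℕ → Bool) (hi : ℕ) : ℕ → Bool
  | 0 => true
  | k + 1 => f (hi - (k + 1)) && rg f hi k

theorem rg_spec {f : ℕ → Bool} {hi : ℕ} : ∀ {k : ℕ}, rg f hi k = true → ∀ n, hi ≤ n + k → n < hi → f n = true := by
  intro k
  induction k with
  | zero => intro _ n h1 h2; omega
  | succ k ih =>
    intro h n h1 h2
    rw [rg, Bool.and_eq_true] at h
    by_cases h3 : hi ≤ n + k
    · exact ih h.2 n h3 h2
    · have : n = hi - (k + 1) := by omega
      rw [this]; exact h.1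

/-- segments `lo ≤ n < hi` -/
inductive Seg
  /-- full enumeration -/
  | full (lo hi : ℕ)
  /-- two primes `r < s` -/
  | two (lo hi r s : ℕ)
  /-- lower bounds for the first row (column) at most `n - L` -/
  | lev (lo hi L : ℕ)
  /-- the fast check -/
  | fast (lo hi : ℕ)

/-- start of a segment -/
def Seg.lo : Seg → ℕ
  | .full lo _ => lo
  | .two lo _ _ _ => lo
  | .lev lo _ _ => lo
  | .fast lo _ => lo

/-- end of a segment -/
def Seg.hi : Seg → ℕ
  | .full _ hi => hi
  | .two _ hi _ _ => hi
  | .lev _ hi _ => hi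
  | .fast _ hi => hi

/-- the kernel check of a segment; `B` with `4 N ≤ B²` (`N ≤ B²` for `two = false`) -/
noncomputable def segChk (two : Bool) (N : ℕ) (P : List ℕ) (S : List (ℕ × ℕ)) (B : ℕ) : Seg → Bool
  | .full lo hi => rg (fun n => kill two N P S (fullE n)) hi (hi - lo)
  | .two lo hi r s => isP r && isP s && Nat.blt r s && Nat.ble 3 r && Nat.ble s lo && Nat.ble hi (2 * r) &&
      (N % r != 0) && (N % s != 0) && Nat.ble (2 * hi) (24 + r + s) &&
      rg (fun n => kill two N P S (TE (2 * n + 1 - r - s) n)) hi (hi - lo)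
  | .lev lo hi L => Nat.ble L 12 && Nat.ble ((if two = true then 4 else 1) * N) (B * B) &&
      if hi ≤ 62 then Nat.ble 20 lo && rg (fun n => Nat.ble B (tg n L) && kill two N P S (LE L n)) hi (hi - lo)
      else Nat.ble 60 lo && Nat.ble (100 * L.factorial * B) (wt L * Rp L lo) &&
        rg (fun n => kill two N P S (LE L n)) hi (hi - lo)
  | .fast lo hi => Nat.ble ((if two = true then 4 else 1) * N) (B * B) && Nat.ble 60 lo &&
      Nat.ble (600 * B) (95 * Rp 3 lo) &&
      rg (fun n => ((if two = true then 4 else 2) * N % (n * (n - 3)) != 0) || kill two N P S (LE 3 n)) hi (hi - lo)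

variable {K : Type u} [Group K] [Finite K] {N n : ℕ} {P : List ℕ} {S : List (ℕ × ℕ)} {two : Bool}

theorem Facts.of_seg (F : Facts K N P S) (hd : DegM two n K) (hP : P ≠ []) {B : ℕ} {s : Seg}
    (h : segChk two N P S B s = true) (h1 : s.lo ≤ n) (h2 : n < s.hi) : False := by
  cases s with
  | full lo hi =>
    simp only [Seg.lo, Seg.hi] at h1 h2
    rw [segChk] at h
    have h3 := rg_spec h n (by omega) h2
    exact F.kill_full hd h3
  | two lo hi r s =>
    simp only [Seg.lo, Seg.hi] at h1 h2
    rw [segChk] at h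
    simp only [Bool.and_eq_true, bne_iff_ne, ne_eq] at h
    obtain ⟨⟨⟨⟨⟨⟨⟨⟨⟨g1, g2⟩, g3⟩, g4⟩, g5⟩, g6⟩, g7⟩, g8⟩, g9⟩, g10⟩ := h
    rw [Nat.blt_eq] at g3
    have g4 := Nat.le_of_ble_eq_true g4
    have g5 := Nat.le_of_ble_eq_true g5
    have g6 := Nat.le_of_ble_eq_true g6
    have g9 := Nat.le_of_ble_eq_true g9
    have h3 := rg_spec g10 n (by omega) h2
    refine F.kill_T hd (prime_of_isP g1) (prime_of_isP g2) (by omega) g3 (by omega) (by omega)
      (fun h => g7 (Nat.mod_eq_zero_of_dvd h)) (fun h => g8 (Nat.mod_eq_zero_of_dvd h)) ?_ ?_ h3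
    · omega
    · omega
  | lev lo hi L =>
    simp only [Seg.lo, Seg.hi] at h1 h2
    rw [segChk] at h
    rw [Bool.and_eq_true, Bool.and_eq_true] at h
    obtain ⟨⟨g1, g2⟩, h⟩ := h
    have g1 := Nat.le_of_ble_eq_true g1
    have g2 := Nat.le_of_ble_eq_true g2
    split_ifs at h with h62
    · rw [Bool.and_eq_true] at h
      have g3 := Nat.le_of_ble_eq_true h.1
      have h3 := rg_spec h.2 n (by omega) h2
      simp only [Bool.and_eq_true] at h3
      exact F.kill_L hd (by omega) ((lbt (by omega) (by omega) g1).mono (Nat.le_of_ble_eq_true h3.1)) g2 h3.2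
    · rw [Bool.and_eq_true, Bool.and_eq_true] at h
      obtain ⟨⟨g3, g4⟩, g5⟩ := h
      have g3 := Nat.le_of_ble_eq_true g3
      have g4 := Nat.le_of_ble_eq_true g4
      have h3 := rg_spec g5 n (by omega) h2
      exact F.kill_L hd (by omega) (lb_high g1 g3 h1 g4) g2 h3
  | fast lo hi =>
    simp only [Seg.lo, Seg.hi] at h1 h2
    rw [segChk] at h
    simp only [Bool.and_eq_true] at h
    obtain ⟨⟨⟨g1, g2⟩, g3⟩, g4⟩ := h
    have g1 := Nat.le_of_ble_eq_true g1
    have g2 := Nat.le_of_ble_eq_true g2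
    have g3 := Nat.le_of_ble_eq_true g3
    have h3 := rg_spec g4 n (by omega) h2
    have hB : LBs 1 3 n B := lb_high (by norm_num) g2 h1 (by
      rw [show 100 * Nat.factorial 3 = 600 by rfl]
      exact g3)
    simp only [Bool.or_eq_true, bne_iff_ne, ne_eq] at h3
    rcases h3 with h3 | h3
    · exact F.kill_fast hd (by omega) hP hB g1 h3
    · exact F.kill_L hd (by norm_num) hB g1 h3

/-- the segments cover `lo ≤ n < hi` -/
noncomputable def covers (lo hi : ℕ) : List Seg → Bool
  | [] => Nat.ble hi lo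
  | s :: l => Nat.ble s.lo lo && covers s.hi hi l

theorem covers_spec : ∀ (l : List Seg) (lo hi : ℕ), covers lo hi l = true → ∀ n, lo ≤ n → n < hi →
    ∃ s ∈ l, s.lo ≤ n ∧ n < s.hi := by
  intro l
  induction l with
  | nil =>
    intro lo hi h n h1 h2
    have := Nat.le_of_ble_eq_true h
    omega
  | cons s l ih =>
    intro lo hi h n h1 h2
    rw [covers, Bool.and_eq_true] at h
    have h3 := Nat.le_of_ble_eq_true h.1
    by_cases h4 : n < s.hi
    · exact ⟨s, by simp, by omega, h4⟩
    · obtain ⟨s', hs', h5⟩ := ih s.hi hi h.2 n (by omega) h2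
      exact ⟨s', by simp [hs'], h5⟩

/-- **the kernel check of a range of `n`** -/
theorem Facts.of_segs (F : Facts K N P S) (hd : DegM two n K) (hP : P ≠ []) (B : ℕ) (l : List Seg) {lo hi : ℕ}
    (hc : covers lo hi l = true) (h : (l.all fun s => segChk two N P S B s) = true) (h1 : lo ≤ n) (h2 : n < hi) :
    False := by
  obtain ⟨s, hs, g1, g2⟩ := covers_spec l lo hi hc n h1 h2
  exact F.of_seg hd hP (List.all_eq_true.1 h s hs) g1 g2

end Cfsg.Agent.H704.DS
end

-- part: H704/DS/Rel
section
/-!
# The relation of the principal block, and known degrees (helper704)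

* `Facts.kill_rel` : `L` contains all the possible degrees (kernel check by enumeration), and no signed sum
  `1 + ε_1 χ_1(1) + ... = d f`;
* `Facts.kill_deg` : a known degree.
-/

set_option autoImplicit false
set_option linter.unusedSectionVars false
set_option maxRecDepth 100000

universe u

namespace Cfsg.Agent.H704.DS

open Cfsg Subgroup Cfsg.Agent.H704
open Cfsg.Agent.Characters.Core
open Cfsg.Agent.M23Order.Base

/-- no `acc +` sum of `k` elements of the list is in `T` -/
def noSum (T : List ℤ) : List ℤ → ℕ → ℤ → Bool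
  | [], k, acc => k != 0 || !(T.contains acc)
  | v :: vs, k, acc => (List.range (k + 1)).all fun j => noSum T vs (k - j) (acc + j * v)

theorem noSum_spec {T : List ℤ} : ∀ (vals : List ℤ) (k : ℕ) (acc : ℤ), noSum T vals k acc = true →
    ∀ s : Multiset ℤ, (∀ x ∈ s, x ∈ vals) → s.card = k → acc + s.sum ∉ T := by
  classical
  intro vals
  induction vals with
  | nil =>
    intro k acc h s hs hk
    have h1 : s = 0 := by
      apply Multiset.eq_zero_of_forall_notMem
      intro x hx
      have := hs x hx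
      simp at this
    subst h1
    rw [Multiset.card_zero] at hk
    rw [noSum, ← hk] at h
    rw [Multiset.sum_zero, add_zero]
    simpa using h
  | cons v vs ih =>
    intro k acc h s hs hk
    rw [noSum, List.all_eq_true] at h
    have h1 : s = Multiset.replicate (s.count v) v + s.filter (fun x => ¬ x = v) := by
      conv_lhs => rw [← Multiset.filter_add_not (fun x => x = v) s]
      rw [Multiset.filter_eq']
    have h2 : s.count v ≤ k := by rw [← hk]; exact Multiset.count_le_card _ _
    have h3 := h (s.count v) (List.mem_range.2 (by omega))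
    have h4 : (s.filter (fun x => ¬ x = v)).card = k - s.count v := by
      have h5 := congrArg Multiset.card h1
      rw [Multiset.card_add, Multiset.card_replicate, hk] at h5
      omega
    have h6 := ih _ _ h3 (s.filter (fun x => ¬ x = v)) (by
      intro x hx
      rw [Multiset.mem_filter] at hx
      have := hs x hx.1
      rw [List.mem_cons] at this
      exact this.resolve_left hx.2) h4
    have h7 : s.sum = (s.count v : ℤ) * v + (s.filter (fun x => ¬ x = v)).sum := by
      conv_lhs => rw [h1]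
      rw [Multiset.sum_add, Multiset.sum_replicate, nsmul_eq_mul]
    rw [h7, ← add_assoc]
    exact h6

/-- the signed nonexceptional degrees -/
def valsN (p : ℕ) (L : List ℕ) : List ℤ :=
  (L.filter fun x => x % p == 1).map (fun x : ℕ => (x : ℤ)) ++
    (L.filter fun x => x % p == p - 1).map (fun x : ℕ => -(x : ℤ))

/-- the signed exceptional degrees -/
def valsX (p e : ℕ) (L : List ℕ) : List ℤ :=
  (L.filter fun x => x % p == e).map (fun x : ℕ => (x : ℤ)) ++
    (L.filter fun x => x % p == p - e).map (fun x : ℕ => -(x : ℤ))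

/-- the check of the relation -/
def relChk (q : ℕ × ℕ) (L : List ℕ) : Bool :=
  Nat.ble 2 q.2 && noSum (valsX q.1 q.2 L) (valsN q.1 L) (q.2 - 1) 1

variable {K : Type u} [Group K] [Finite K] {N n : ℕ} {P : List ℕ} {S : List (ℕ × ℕ)} {two : Bool}

/-- the relation -/
theorem rel_false (hK : commutator K = ⊤) {q : ℕ × ℕ} (hq : SCok K q.1 q.2) {L : List ℕ}
    (hL : ∀ (ψ : K → ℂ) (e : ℕ), IsIrrCharacter K ψ → ψ 1 = e → e ≠ 1 → e ∈ L) (h : relChk q L = true) : False := by
  classical
  obtain ⟨p, e⟩ := q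
  obtain ⟨g1, g2, g3, t, R, g4, g5, ⟨D⟩⟩ := hq
  simp only at g1 g2 g3 g5 D
  rw [relChk, Bool.and_eq_true] at h
  have he2 := Nat.le_of_ble_eq_true h.1
  simp only at he2 h
  obtain ⟨Θ, hΘ⟩ : D.X.Nonempty := by rw [← Finset.card_pos, D.card_X]; exact g4
  have hne : ∀ χ : IrrCharacter K, χ ≠ D.one → dg χ ∈ L := by
    intro χ hχ
    refine hL χ (dg χ) χ.2 (dg_eq χ) ?_
    intro h0
    apply hχ
    apply Subtype.ext
    rw [D.coe_one]
    apply H621.SymDeg.eq_one_of_perfect hK χ.2
    rw [dg_eq, h0, Nat.cast_one]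
  -- the relation in degrees
  have hrel : ∑ χ ∈ D.NE, D.ε χ * (dg χ : ℤ) = D.d * (D.f : ℤ) := by
    have h1 := D.rel Θ hΘ 1 (by
      rw [orderOf_one]
      intro h0
      have := Nat.le_of_dvd one_pos h0
      omega)
    rw [dg_eq, D.deg_X Θ hΘ] at h1
    simp only [dg_eq] at h1
    exact_mod_cast h1
  have hone : dg D.one = 1 := by
    have h1 := dg_eq D.one
    rw [D.coe_one, Pi.one_apply] at h1
    exact_mod_cast h1.symm
  rw [← Finset.add_sum_erase _ _ D.one_mem, D.ε_one, hone, Nat.cast_one, mul_one] at hrel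
  have h2 := noSum_spec _ _ _ h.2 ((D.NE.erase D.one).val.map fun χ => D.ε χ * (dg χ : ℤ)) ?_ ?_
  · apply h2
    have h3 : ((D.NE.erase D.one).val.map fun χ => D.ε χ * (dg χ : ℤ)).sum =
        ∑ χ ∈ D.NE.erase D.one, D.ε χ * (dg χ : ℤ) := rfl
    rw [h3, hrel]
    -- the exceptional degree
    have h4 : D.f ∈ L := by
      rw [← D.deg_X Θ hΘ]
      apply hne
      intro h0
      exact Finset.disjoint_left.1 D.disj D.one_mem (h0 ▸ hΘ)
    have h5 := D.mod_X
    rw [valsX, List.mem_append, List.mem_map, List.mem_map]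
    rcases D.d_mem with h6 | h6
    · left
      refine ⟨D.f, ?_, by rw [h6, one_mul]⟩
      rw [List.mem_filter]
      refine ⟨h4, ?_⟩
      rw [h6, one_mul] at h5
      have h7 : (e : ℤ) ≡ D.f [ZMOD p] := (Int.modEq_iff_dvd).2 h5
      have h8 : e ≡ D.f [MOD p] := by exact_mod_cast h7
      have h9 : e % p = D.f % p := h8
      rw [Nat.mod_eq_of_lt g3] at h9
      simpa using h9.symm
    · right
      refine ⟨D.f, ?_, by rw [h6]; ring⟩
      rw [List.mem_filter]
      refine ⟨h4, ?_⟩
      have h7 := H417.BlockCount.mod_X' D g2 g3 hΘ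
      rw [D.deg_X Θ hΘ] at h7
      rcases h7 with h7 | h7
      · -- both
        rw [h6] at h5
        have h8 : (p : ℤ) ∣ (D.f + e : ℕ) := by
          have : ((D.f + e : ℕ) : ℤ) = (D.f : ℤ) - -1 * e := by push_cast; ring
          rw [this]; exact h5
        have h9 : p ∣ D.f + e := by exact_mod_cast h8
        have h10 : (D.f + e) % p = 0 := Nat.mod_eq_zero_of_dvd h9
        rw [Nat.add_mod, h7, Nat.mod_eq_of_lt g3] at h10
        have h11 : p ∣ e + e := Nat.dvd_of_mod_eq_zero h10
        obtain ⟨c, hc⟩ := h11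
        have hc1 : c = 1 := by
          have hc0 : c ≠ 0 := by rintro rfl; omega
          by_contra hc1
          have : p * 2 ≤ p * c := Nat.mul_le_mul_left p (by omega)
          omega
        rw [hc1, mul_one] at hc
        have : p - e = e := by omega
        rw [this]
        simpa using h7
      · simpa using h7
  · -- the nonexceptional degrees
    intro x hx
    rw [Multiset.mem_map] at hx
    obtain ⟨χ, hχ, rfl⟩ := hx
    have hχ' : χ ∈ D.NE.erase D.one := hχ
    rw [Finset.mem_erase] at hχ'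
    have h4 := hne χ hχ'.1
    have h5 := D.mod_NE χ hχ'.2
    rw [valsN, List.mem_append, List.mem_map, List.mem_map]
    rcases D.ε_mem χ hχ'.2 with h6 | h6
    · left
      refine ⟨dg χ, ?_, by rw [h6, one_mul]⟩
      rw [List.mem_filter]
      refine ⟨h4, ?_⟩
      rw [h6] at h5
      have h7 : (1 : ℤ) ≡ dg χ [ZMOD p] := (Int.modEq_iff_dvd).2 h5
      have h8 : 1 ≡ dg χ [MOD p] := by exact_mod_cast h7
      have h9 : 1 % p = dg χ % p := h8
      rw [Nat.mod_eq_of_lt (by omega)] at h9
      simpa using h9.symm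
    · right
      refine ⟨dg χ, ?_, by rw [h6]; ring⟩
      rw [List.mem_filter]
      refine ⟨h4, ?_⟩
      rw [h6] at h5
      have h8 : (p : ℤ) ∣ (dg χ + 1 : ℕ) := by
        have : ((dg χ + 1 : ℕ) : ℤ) = (dg χ : ℤ) - -1 := by push_cast; ring
        rw [this]; exact h5
      have h9 : p ∣ dg χ + 1 := by exact_mod_cast h8
      obtain ⟨k, hk⟩ := h9
      have hk0 : 0 < k := by
        rcases Nat.eq_zero_or_pos k with h0 | h0
        · rw [h0, mul_zero] at hk; omega
        · exact h0
      obtain ⟨m, rfl⟩ : ∃ m, k = m + 1 := ⟨k - 1, by omega⟩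
      have h10 : dg χ = (p - 1) + p * m := by
        rw [mul_add, mul_one] at hk
        omega
      have h11 : dg χ % p = p - 1 := by
        rw [h10, Nat.add_mul_mod_self_left, Nat.mod_eq_of_lt (by omega)]
      simpa using h11
  · rw [Multiset.card_map]
    have h3 : Multiset.card (D.NE.erase D.one).val = (D.NE.erase D.one).card := rfl
    rw [h3, Finset.card_erase_of_mem D.one_mem, D.card_NE]

/-- **the relation check**: `L` is a list containing all possible degrees -/
theorem Facts.kill_rel (F : Facts K N P S) (hd : DegM two n K) {Q : ℕ → Prop} {E : (ℕ → Bool) → Bool}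
    (hE : Cover n Q E) (hQ : Base2 two N S Q) {L : List ℕ}
    (h : E (leaf two fun e => base N S e || L.contains e) = true) {q : ℕ × ℕ} (hq : q ∈ S)
    (hr : relChk q L = true) : False := by
  refine rel_false F.perfect (F.sc q hq) (L := L) ?_ hr
  intro ψ e h1 h2 h3
  have h4 := F.test' hd hE hQ h h1 h2 h3
  simpa using h4

/-- the relation check, lower bounds (`20 ≤ n ≤ 61`) -/
theorem Facts.kill_rel_L (F : Facts K N P S) (hd : DegM two n K) {L : List ℕ} (k B : ℕ)
    (h0 : (Nat.ble 20 n && Nat.ble n 61 && Nat.ble k 12 && Nat.ble B (tg n k) &&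
      Nat.ble ((if two = true then 4 else 1) * N) (B * B)) = true)
    (h : LE k n (leaf two fun e => base N S e || L.contains e) = true) {q : ℕ × ℕ} (hq : q ∈ S)
    (hr : relChk q L = true) : False := by
  simp only [Bool.and_eq_true] at h0
  obtain ⟨⟨⟨⟨g1, g2⟩, g3⟩, g4⟩, g5⟩ := h0
  have g1 := Nat.le_of_ble_eq_true g1
  have g2 := Nat.le_of_ble_eq_true g2
  have g3 := Nat.le_of_ble_eq_true g3
  have g4 := Nat.le_of_ble_eq_true g4
  have g5 := Nat.le_of_ble_eq_true g5
  exact F.kill_rel hd (cover_L (by omega) ((lbt g1 g2 g3).mono g4)) (base2_L g5) h hq hr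

/-- the relation check, two primes -/
theorem Facts.kill_rel_T (F : Facts K N P S) (hd : DegM two n K) {L : List ℕ} (r s : ℕ)
    (h0 : (isP r && isP s && Nat.blt r s && Nat.ble 3 r && Nat.ble s n && Nat.blt n (2 * r) &&
      (N % r != 0) && (N % s != 0) && Nat.ble (2 * n + 1) (23 + r + s)) = true)
    (h : TE (2 * n + 1 - r - s) n (leaf two fun e => base N S e || L.contains e) = true) {q : ℕ × ℕ} (hq : q ∈ S)
    (hr : relChk q L = true) : False := by
  simp only [Bool.and_eq_true, bne_iff_ne, ne_eq] at h0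
  obtain ⟨⟨⟨⟨⟨⟨⟨⟨g1, g2⟩, g3⟩, g4⟩, g5⟩, g6⟩, g7⟩, g8⟩, g9⟩ := h0
  rw [Nat.blt_eq] at g3 g6
  have g4 := Nat.le_of_ble_eq_true g4
  have g5 := Nat.le_of_ble_eq_true g5
  have g9 := Nat.le_of_ble_eq_true g9
  exact F.kill_rel hd (cover_T (prime_of_isP g1) (prime_of_isP g2) g3 g6 g5 (by omega) (by omega))
    (base2_T (prime_of_isP g1) (prime_of_isP g2) (by omega) (by omega)
      (fun h => g7 (Nat.mod_eq_zero_of_dvd h)) (fun h => g8 (Nat.mod_eq_zero_of_dvd h))) h hq hr

end Cfsg.Agent.H704.DS
end

private theorem dce_6b5d2a7f8bd6 : _root_.True := by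
  try have : _root_.True := by simp only [_root_.Cfsg.Agent.H704.DS.relChk.eq_1]
  try have : _root_.True := by simp only [_root_.Cfsg.Agent.H704.DS.valsN.eq_1]
  try have : _root_.True := by simp only [_root_.Cfsg.Agent.H704.DS.isP.eq_1]
  try have : _root_.True := by simp only [_root_.Cfsg.Agent.H704.DS.rg.eq_1]
  try have : _root_.True := by simp only [_root_.Cfsg.Agent.H704.DS.segChk.eq_3]
  try have : _root_.True := by simp only [_root_.Cfsg.Agent.H704.DS.noSum.eq_1]
  try have : _root_.True := by simp only [_root_.Cfsg.Agent.H704.DS.covers.eq_def]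
  try have : _root_.True := by simp only [_root_.Cfsg.Agent.H704.DS.Seg.lo.eq_1]
  try have : _root_.True := by simp only [_root_.Cfsg.Agent.H704.DS.Seg.hi.eq_1]
  try have : _root_.True := by simp only [_root_.Cfsg.Agent.H704.DS.covers.eq_2]
  try have : _root_.True := by simp only [_root_.Cfsg.Agent.H704.DS.Seg.lo.eq_2]
  try have : _root_.True := by simp only [_root_.Cfsg.Agent.H704.DS.Seg.hi.eq_2]
  try have : _root_.True := by simp only [_root_.Cfsg.Agent.H704.DS.Seg.lo.eq_4]
  try have : _root_.True := by simp only [_root_.Cfsg.Agent.H704.DS.Seg.hi.eq_4]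
  try have : _root_.True := by simp only [_root_.Cfsg.Agent.H704.DS.LE.eq_1]
  try have : _root_.True := by simp only [_root_.Cfsg.Agent.H704.DS.ev.eq_1]
  try have : _root_.True := by simp only [_root_.Cfsg.Agent.H704.DS.ent.eq_1]
  try have : _root_.True := by simp only [_root_.Cfsg.Agent.H704.DS.rg.eq_2]
  try have : _root_.True := by simp only [_root_.Cfsg.Agent.H704.DS.noSum.eq_2]
  try have : _root_.True := by simp only [_root_.Cfsg.Agent.H704.DS.Seg.lo.eq_3]
  try have : _root_.True := by simp only [_root_.Cfsg.Agent.H704.DS.Seg.hi.eq_3]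
  try have : _root_.True := by simp only [_root_.Cfsg.Agent.H704.DS.segChk.eq_1]
  try have : _root_.True := by simp only [_root_.Cfsg.Agent.H704.DS.pr.eq_2]
  try have : _root_.True := by simp only [_root_.Cfsg.Agent.H704.DS.pr.eq_def]
  try have : _root_.True := by simp only [_root_.Cfsg.Agent.H704.DS.TE.eq_1]
  try have : _root_.True := by simp only [_root_.Cfsg.Agent.H704.DS.segChk.eq_2]
  try have : _root_.True := by simp only [_root_.Cfsg.Agent.H704.DS.valsX.eq_1]
  try have : _root_.True := by simp only [_root_.Cfsg.Agent.H704.DS.pr.eq_1]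
  try have : _root_.True := by simp only [_root_.Cfsg.Agent.H704.DS.covers.eq_1]
  try have : _root_.True := by simp only [_root_.Cfsg.Agent.H704.DS.noSum.eq_def]
  try have : _root_.True := by simp only [_root_.Cfsg.Agent.H704.DS.rg.eq_def]
  try have : _root_.True := by simp only [_root_.Cfsg.Agent.H704.DS.rowChk.eq_1]
  try have : _root_.True := by simp only [_root_.Cfsg.Agent.H704.DS.segChk.eq_4]
  exact _root_.True.intro
end

-- part: H704/DS/K/Tits
section
set_option linter.all false

/-!
# S4906: kernel checks, Tits (helper704, generated)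
-/

set_option autoImplicit false
set_option linter.unusedSectionVars false
set_option maxRecDepth 100000

universe u

namespace Cfsg.Agent.H704.DS.K.Tits

open Cfsg Cfsg.Agent.H704 Cfsg.Agent.H704.DS

variable {K : Type u} [Group K] [Finite K] {n : ℕ}

theorem seg0 : ([.full 14 17, .two 17 19 11 17, .two 19 21 17 19, .lev 21 23 5, .two 23 24 19 23, .lev 24 31 4, .two 31 32 29 31, .lev 32 40 4, .lev 40 43 3, .two 43 44 41 43, .lev 44 61 3, .two 61 62 59 61, .fast 62 132] : List Seg).all (fun s => segChk true 17971200 [2, 3, 5, 13] [(13, 6)] 8479 s) = true := by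
  decide +kernel

theorem bad13 : TE (2 * 13 + 1 - 7 - 11) 13 (leaf true fun e => base 17971200 [(13, 6)] e || ([6, 12, 65, 104, 208, 468, 936, 3900] : List ℕ).contains e) = true := by
  decide +kernel

theorem rel13 : relChk (13, 6) [6, 12, 65, 104, 208, 468, 936, 3900] = true := by decide +kernel

/-- **no `n`** for a group with the facts of Tits -/
theorem kill (F : Facts K 17971200 [2, 3, 5, 13] [(13, 6)]) (hd : DegM true n K) : False := by
  have h1 : 13 ≤ n := F.le_n hd (p := 13) (by decide)
  have h2 : n < 132 := F.lt_of_bound hd (by omega) (by decide) (by norm_num)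
  by_cases g13 : n = 13
  · subst g13
    exact F.kill_rel_T hd 7 11 (by decide +kernel) bad13 (q := (13, 6)) (by decide) rel13
  by_cases k0 : 14 ≤ n ∧ n < 132
  · exact F.of_segs hd (by decide) 8479 _ (lo := 14) (hi := 132) (by decide) seg0 k0.1 k0.2
  omega

end Cfsg.Agent.H704.DS.K.Tits
end

-- part: H208/DS/Kill
section
set_option linter.all false
open scoped Cfsg.Agent.FastGrp

-- part: H208/DS/Level
section
/-!
# The degrees of the partitions with at least `j ≤ 7` boxes outside the first row and outside the first column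
(helper208, S4906)

`lv_all` : for `25 ≤ n` such a degree is at least `C(n, j) - C(n, j - 1)`.
-/

set_option autoImplicit false
set_option linter.unusedSectionVars false

namespace Cfsg.Agent.H208.DS

open Finset
open Cfsg.Agent.H704

/-- `C(n, j) - C(n, j - 1)` -/
def gz : ℕ → ℕ → ℤ
  | 0, _ => 1
  | j + 1, n => (n.choose (j + 1) : ℤ) - (n.choose j : ℤ)

theorem gz_succ (j n : ℕ) : gz (j + 1) (n + 1) = gz (j + 1) n + gz j n := by
  cases j with
  | zero =>
    simp only [gz, zero_add, Nat.choose_one_right, Nat.choose_zero_right]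
    push_cast
    ring
  | succ j =>
    simp only [gz]
    rw [Nat.choose_succ_succ' n (j + 1), Nat.choose_succ_succ' n j]
    push_cast
    ring

/-- the convexity gap -/
def hz : ℕ → ℕ → ℤ
  | 0, x => gz 1 x - 2 * gz 0 x
  | j + 1, x => gz (j + 2) x - 2 * gz (j + 1) x - gz j x

theorem hz_succ (j x : ℕ) : hz (j + 1) (x + 1) = hz (j + 1) x + hz j x := by
  cases j with
  | zero =>
    simp only [hz, zero_add]
    rw [gz_succ 1 x, show gz 1 (x + 1) = gz 1 x + gz 0 x from gz_succ 0 x]
    simp only [gz]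
    ring
  | succ j =>
    simp only [hz]
    rw [gz_succ (j + 2) x, gz_succ (j + 1) x, gz_succ j x]
    ring

/-- values of the binomial coefficients -/
theorem choose25 : Nat.choose 25 0 = 1 ∧ Nat.choose 25 1 = 25 ∧ Nat.choose 25 2 = 300 ∧ Nat.choose 25 3 = 2300 ∧
    Nat.choose 25 4 = 12650 ∧ Nat.choose 25 5 = 53130 ∧ Nat.choose 25 6 = 177100 ∧ Nat.choose 25 7 = 480700 := by
  simp only [Nat.choose_eq_descFactorial_div_factorial]
  decide +kernel

theorem hz_nonneg : ∀ x : ℕ, 25 ≤ x → ∀ j ≤ 6, 0 ≤ hz j x := by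
  intro x hx
  induction x, hx using Nat.le_induction with
  | base =>
    obtain ⟨h0, h1, h2, h3, h4, h5, h6, h7⟩ := choose25
    intro j hj
    interval_cases j <;> simp only [hz, gz, zero_add, Nat.reduceAdd, h0, h1, h2, h3, h4, h5, h6, h7] <;> norm_num
  | succ x hx ih =>
    intro j hj
    cases j with
    | zero =>
      have h1 := ih 0 (by omega)
      simp only [hz] at h1 ⊢
      rw [show gz 1 (x + 1) = gz 1 x + gz 0 x from gz_succ 0 x]
      simp only [gz] at h1 ⊢
      omega
    | succ j =>
      rw [hz_succ]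
      have h1 := ih (j + 1) hj
      have h2 := ih j (by omega)
      omega

theorem gz_pos' {x : ℕ} (hx : 25 ≤ x) : ∀ j, (j ≤ 7 → 1 ≤ gz j x) ∧ (j + 1 ≤ 7 → 1 ≤ gz (j + 1) x) := by
  intro j
  induction j with
  | zero =>
    refine ⟨fun _ => le_rfl, fun _ => ?_⟩
    have h3 := hz_nonneg x hx 0 (by omega)
    simp only [hz] at h3
    have h4 : gz 0 x = 1 := rfl
    rw [zero_add]
    omega
  | succ j ih =>
    refine ⟨ih.2, fun hj => ?_⟩
    have h3 := hz_nonneg x hx (j + 1) (by omega)
    simp only [hz] at h3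
    have h4 := ih.1 (by omega)
    have h5 := ih.2 (by omega)
    rw [show j + 1 + 1 = j + 2 from rfl]
    omega

theorem gz_pos {x : ℕ} (hx : 25 ≤ x) {j : ℕ} (hj : j ≤ 7) : 1 ≤ gz j x := (gz_pos' hx j).1 hj

theorem gz_mono {x : ℕ} (hx : 25 ≤ x) {j : ℕ} (hj : j ≤ 6) : gz j x ≤ gz (j + 1) x := by
  have h1 := gz_pos hx (show j ≤ 7 by omega)
  have h3 := hz_nonneg x hx j hj
  cases j with
  | zero =>
    simp only [hz] at h3
    rw [zero_add]
    omega
  | succ j =>
    simp only [hz] at h3
    have h2 := gz_pos hx (show j ≤ 7 by omega)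
    rw [show j + 1 + 1 = j + 2 from rfl]
    omega

/-- two steps -/
theorem gz_two {x : ℕ} (hx : 25 ≤ x) {j : ℕ} (hj : j ≤ 6) : gz (j + 1) (x + 2) ≤ 2 * gz (j + 1) x := by
  have h3 := hz_nonneg x hx j hj
  have h1 : gz (j + 1) (x + 2) = gz (j + 1) (x + 1) + gz j (x + 1) := gz_succ j (x + 1)
  have h2 := gz_succ j x
  cases j with
  | zero =>
    simp only [hz] at h3
    have h4 : gz 0 x = 1 := rfl
    have h5 : gz 0 (x + 1) = 1 := rfl
    rw [zero_add] at h1 h2 ⊢
    omega
  | succ j =>
    simp only [hz] at h3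
    have h4 := gz_succ j x
    rw [show j + 1 + 1 = j + 2 from rfl] at h1 h2 ⊢
    omega

/-- the claim -/
def LV (n : ℕ) : Prop := ∀ j ≤ 7, ∀ (l : List ℕ) (d : ℕ), Dec l → l.sum = n → d * hookProd l = n.factorial →
  l.headD 0 + j ≤ n → colLen l 0 + j ≤ n → gz j n ≤ d

theorem colLen_zero_le_sum : ∀ l : List ℕ, colLen l 0 ≤ l.sum := by
  intro l
  induction l with
  | nil => simp [colLen]
  | cons a l ih =>
    rw [colLen_cons, List.sum_cons]
    split_ifs with h <;> omega

theorem head_add_colLen {l : List ℕ} (h : 0 < l.headD 0) : l.headD 0 + colLen l 0 ≤ l.sum + 1 := by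
  cases l with
  | nil => simp at h
  | cons a l =>
    rw [List.headD_cons] at h ⊢
    rw [colLen_cons, if_pos h, List.sum_cons]
    have := colLen_zero_le_sum l
    omega

theorem lv_head {n i : ℕ} (hn : 26 ≤ n) (hi : i ≤ 6) (ih : LV n) {l : List ℕ} {d : ℕ} (hl : Dec l)
    (hs : l.sum = n + 1) (hd : d * hookProd l = (n + 1).factorial) (hh : l.headD 0 + (i + 1) = n + 1) :
    gz (i + 1) (n + 1) ≤ d := by
  obtain ⟨h1, h2, h3⟩ := sum_facts hl (by omega)
  have hcol := head_add_colLen h3
  have hc0 : l.getD (0 + 1) 0 < l.getD 0 0 := by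
    rw [← headD_eq_getD, zero_add]; omega
  have hc1 := corner_last hl (by omega)
  have hlen0 : 0 < l.length := lt_length_of_getD hc0
  obtain ⟨d1, -, hd1⟩ := exists_deg (dec_rm hl hc0) (n := n) (by have := sum_rm hc0; omega)
  obtain ⟨d2, hp2, hd2⟩ := exists_deg (dec_rm hl hc1) (n := n) (by have := sum_rm hc1; omega)
  have h4 := branch_two hl hs (i := 0) (k := colLen l 0 - 1) (by omega) hc0 hc1 hd hd1 hd2
  have h5 := ih (i + 1) (by omega) (rm l 0) d1 (dec_rm hl hc0) (by have := sum_rm hc0; omega) hd1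
    (by rw [headD_rm_zero hlen0]; omega) (by have := colLen_rm_le hl hc0 0; omega)
  have h6 := ih i (by omega) (rm l (colLen l 0 - 1)) d2 (dec_rm hl hc1) (by have := sum_rm hc1; omega) hd2
    (by rw [headD_rm_pos (lt_length_of_getD hc1) (by omega)]; omega) (by have := colLen_rm_le hl hc1 0; omega)
  rw [gz_succ]
  have h7 : ((d1 + d2 : ℕ) : ℤ) ≤ (d : ℤ) := by exact_mod_cast h4
  push_cast at h7
  omega

theorem lv_step {n : ℕ} (hn : 26 ≤ n) (ih1 : LV n) (ih2 : LV (n - 1)) : LV (n + 1) := by
  intro j hj l d hl hs hd hh hc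
  rcases j with - | i
  · have := pos_of_deg hd
    have h0 : gz 0 (n + 1) = 1 := rfl
    omega
  have hi : i ≤ 6 := by omega
  by_cases hA : l.headD 0 + (i + 1) = n + 1
  · exact lv_head hn hi ih1 hl hs hd hA
  by_cases hB : colLen l 0 + (i + 1) = n + 1
  · have h0 : (transpose l).headD 0 = colLen l 0 := by
      rw [headD_eq_getD, getD_transpose hl]
    exact lv_head hn hi ih1 (pairwise_transpose l) (by rw [sum_transpose hl, hs])
      (by rw [hookProd_transpose' hl, hd]) (by rw [h0]; exact hB)
  have hpos : 0 < l.headD 0 := by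
    by_contra hne
    have h1 := sum_eq_sum_colLen hl
    rw [show l.headD 0 = 0 by omega, sum_range_zero] at h1
    omega
  have hcpos : 0 < colLen l 0 := by
    rw [← getD_pos_iff hl, ← headD_eq_getD]; exact hpos
  have hc1 := corner_last hl hcpos
  have hc2 := corner_first hl hpos
  by_cases hne : colLen l (l.headD 0 - 1) - 1 = colLen l 0 - 1
  · -- a rectangle
    have h0 : 0 < colLen l (l.headD 0 - 1) := by
      rw [lt_colLen_iff hl, ← headD_eq_getD]; omega
    have hprod : l.headD 0 * colLen l 0 = n + 1 := by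
      rw [← hs, sum_eq_sum_colLen hl]
      rw [← smul_eq_mul, ← card_range (l.headD 0), ← sum_const]
      rw [card_range]
      apply sum_congr rfl
      intro j hj
      rw [mem_range] at hj
      have h1 := colLen_anti l (Nat.zero_le j)
      have h2 := colLen_anti l (show j ≤ l.headD 0 - 1 by omega)
      omega
    obtain ⟨a, ha⟩ : ∃ a, a = l.headD 0 := ⟨_, rfl⟩
    obtain ⟨k, hk⟩ : ∃ k, k = colLen l 0 := ⟨_, rfl⟩
    rw [← ha, ← hk] at hprod
    have ha2 : 2 ≤ a := by
      by_contra h
      have : a = 1 := by omega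
      rw [this, one_mul] at hprod
      omega
    have hk2 : 2 ≤ k := by
      by_contra h
      have : k = 1 := by omega
      rw [this, mul_one] at hprod
      omega
    have ha3 : 2 * a ≤ n + 1 := by
      have : a * 2 ≤ a * k := Nat.mul_le_mul_left a hk2
      omega
    have hk3 : 2 * k ≤ n + 1 := by
      have : 2 * k ≤ a * k := Nat.mul_le_mul_right k ha2
      omega
    rw [← hk] at hc1
    -- remove the corner
    obtain ⟨d1, -, hd1⟩ := exists_deg (dec_rm hl hc1) (n := n) (by have := sum_rm hc1; omega)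
    have h4 := branch_one hl hs hc1 hd hd1
    have hl1 := dec_rm hl hc1
    have hs1 : (rm l (k - 1)).sum = (n - 1) + 1 := by have := sum_rm hc1; (clear * - hn hs this; omega)
    have hlen := lt_length_of_getD hc1
    have e1 : l.getD (k - 1) 0 = a := by
      have h5 := (lt_colLen_iff hl (k - 1) (a - 1)).1 (by rw [ha]; omega)
      have h6 := getD_le_headD hl (k - 1)
      omega
    have e2 : l.getD (k - 2) 0 = a := by
      have h5 := (lt_colLen_iff hl (k - 2) (a - 1)).1 (by rw [ha]; omega)
      have h6 := getD_le_headD hl (k - 2)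
      omega
    have e3 : l.getD k 0 = 0 := by
      have : ¬ 0 < l.getD k 0 := by rw [getD_pos_iff hl]; omega
      omega
    have hc3 : (rm l (k - 1)).getD ((k - 2) + 1) 0 < (rm l (k - 1)).getD (k - 2) 0 := by
      rw [getD_rm hlen, getD_rm hlen, if_pos (by omega), if_neg (by omega), e1, e2]
      omega
    have hc4 : (rm l (k - 1)).getD ((k - 1) + 1) 0 < (rm l (k - 1)).getD (k - 1) 0 := by
      rw [getD_rm hlen, getD_rm hlen, if_neg (by omega), if_pos rfl, e1, show k - 1 + 1 = k by omega, e3]
      omega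
    obtain ⟨d2, -, hd2⟩ := exists_deg (dec_rm hl1 hc3) (n := n - 1) (by have := sum_rm hc3; omega)
    obtain ⟨d3, -, hd3⟩ := exists_deg (dec_rm hl1 hc4) (n := n - 1) (by have := sum_rm hc4; omega)
    have h5 := branch_two hl1 hs1 (i := k - 2) (k := k - 1) (by omega) hc3 hc4
      (by rw [hd1, show n - 1 + 1 = n by (clear * - hn hs hprod hk2; omega)]) hd2 hd3
    have hhr : (rm l (k - 1)).headD 0 ≤ a := by rw [ha]; exact headD_rm_le hlen
    have hcr : colLen (rm l (k - 1)) 0 ≤ k := by rw [hk]; rw [← hk]; exact (colLen_rm_le hl hc1 0).trans hk.ge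
    have m1 := headD_rm_le (lt_length_of_getD hc3)
    have m2 := colLen_rm_le hl1 hc3 0
    have m3 := headD_rm_le (lt_length_of_getD hc4)
    have m4 := colLen_rm_le hl1 hc4 0
    have h6 := ih2 (i + 1) (by omega) _ d2 (dec_rm hl1 hc3) (by have := sum_rm hc3; omega) hd2
      (by (clear * - hn hj ha3 hhr m1; omega)) (by (clear * - hn hj hk3 hcr m2; omega))
    have h7 := ih2 (i + 1) (by omega) _ d3 (dec_rm hl1 hc4) (by have := sum_rm hc4; omega) hd3
      (by (clear * - hn hj ha3 hhr m3; omega)) (by (clear * - hn hj hk3 hcr m4; omega))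
    have h8 := gz_two (x := n - 1) (by omega) hi
    rw [show n - 1 + 2 = n + 1 by (clear * - hn hs hprod hk2; omega)] at h8
    have h9 : ((d2 + d3 : ℕ) : ℤ) ≤ (d : ℤ) := by exact_mod_cast h5.trans h4
    push_cast at h9
    omega
  · -- two corners
    obtain ⟨d1, -, hd1⟩ := exists_deg (dec_rm hl hc1) (n := n) (by have := sum_rm hc1; omega)
    obtain ⟨d2, -, hd2⟩ := exists_deg (dec_rm hl hc2) (n := n) (by have := sum_rm hc2; omega)
    have h4 := branch_two hl hs (Ne.symm hne) hc1 hc2 hd hd1 hd2
    have m1 := headD_rm_le (lt_length_of_getD hc1)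
    have m2 := colLen_rm_le hl hc1 0
    have m3 := headD_rm_le (lt_length_of_getD hc2)
    have m4 := colLen_rm_le hl hc2 0
    have h5 := ih1 (i + 1) (by omega) _ d1 (dec_rm hl hc1) (by have := sum_rm hc1; omega) hd1 (by (clear * - hh hA m1; omega)) (by (clear * - hc hB m2; omega))
    have h6 := ih1 (i + 1) (by omega) _ d2 (dec_rm hl hc2) (by have := sum_rm hc2; omega) hd2 (by (clear * - hh hA m3; omega)) (by (clear * - hc hB m4; omega))
    have h7 := gz_mono (x := n) (by omega) hi
    have h8 := gz_succ i n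
    have h9 : ((d1 + d2 : ℕ) : ℤ) ≤ (d : ℤ) := by exact_mod_cast h4
    push_cast at h9
    omega

/-! ### The base -/

/-- the table for `n = 25` -/
def tab25 (j : ℕ) : ℕ := ([1, 24, 275, 2000, 10350, 40480, 123970] : List ℕ).getD j 303600

/-- the table for `n = 26` -/
def tab26 (j : ℕ) : ℕ := ([1, 25, 299, 2275, 12350, 50830, 164450] : List ℕ).getD j 427570

/-- the check of a partition -/
def lchk (n : ℕ) (tab : ℕ → ℕ) (l : List ℕ) (H : ℕ) : Bool :=
  Nat.ble (Nat.mul (tab (Nat.sub n (cond (Nat.ble (l.headD 0) l.length) l.length (l.headD 0)))) H) n.factorial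

theorem chk25 : go (lchk 25 tab25) 26 25 1 [] 1 = true := go_of_fast (by decide +kernel)

theorem chk26 : go (lchk 26 tab26) 27 26 1 [] 1 = true := go_of_fast (by decide +kernel)

theorem choose26 : Nat.choose 26 0 = 1 ∧ Nat.choose 26 1 = 26 ∧ Nat.choose 26 2 = 325 ∧ Nat.choose 26 3 = 2600 ∧
    Nat.choose 26 4 = 14950 ∧ Nat.choose 26 5 = 65780 ∧ Nat.choose 26 6 = 230230 ∧ Nat.choose 26 7 = 657800 := by
  simp only [Nat.choose_eq_descFactorial_div_factorial]
  decide +kernel

theorem gz25 : ∀ j ≤ 7, gz j 25 = tab25 j := by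
  obtain ⟨h0, h1, h2, h3, h4, h5, h6, h7⟩ := choose25
  intro j hj
  interval_cases j <;> simp only [gz, zero_add, Nat.reduceAdd, h0, h1, h2, h3, h4, h5, h6, h7, tab25] <;> norm_num

theorem gz26 : ∀ j ≤ 7, gz j 26 = tab26 j := by
  obtain ⟨h0, h1, h2, h3, h4, h5, h6, h7⟩ := choose26
  intro j hj
  interval_cases j <;> simp only [gz, zero_add, Nat.reduceAdd, h0, h1, h2, h3, h4, h5, h6, h7, tab26] <;> norm_num

theorem lv_base {n : ℕ} {tab : ℕ → ℕ} (h : go (lchk n tab) (n + 1) n 1 [] 1 = true)
    (htab : ∀ j ≤ 7, gz j n = tab j) (hmono : ∀ j ≤ 7, ∀ j' ≤ n, j ≤ j' → tab j ≤ tab j') : LV n := by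
  intro j hj l d hl hs hd hh hc
  have h1 := check_of_isPart h (isPart_filter hl hs)
  unfold lchk at h1
  rw [hookProd_filter hl, headD_filter_pos hl, length_filter_pos] at h1
  have h2 := Nat.le_of_ble_eq_true h1
  change tab (n - _) * hookProd l ≤ n.factorial at h2
  rw [← hd] at h2
  have h3 := Nat.le_of_mul_le_mul_right h2 (hookProd_pos hl)
  have h4 : j ≤ n - cond (Nat.ble (l.headD 0) (colLen l 0)) (colLen l 0) (l.headD 0) := by
    cases Nat.ble (l.headD 0) (colLen l 0) <;> simp only [cond_true, cond_false] <;> omega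
  have h5 := hmono j hj _ (Nat.sub_le _ _) h4
  rw [htab j hj]
  exact_mod_cast h5.trans h3

theorem lv25 : LV 25 := lv_base chk25 gz25 (by decide +kernel)

theorem lv26 : LV 26 := lv_base chk26 gz26 (by decide +kernel)

theorem lv_all {n : ℕ} (hn : 25 ≤ n) : LV n := by
  have h : LV n ∧ LV (n + 1) := by
    induction n, hn using Nat.le_induction with
    | base => exact ⟨lv25, lv26⟩
    | succ n hn ih => exact ⟨ih.2, lv_step (n := n + 1) (by omega) ih.2 ih.1⟩
  exact h.1

/-- monotone in `n` -/
theorem gz_le {j : ℕ} (hj : j ≤ 7) {m n : ℕ} (hm : 25 ≤ m) (hmn : m ≤ n) : gz j m ≤ gz j n := by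
  induction n, hmn using Nat.le_induction with
  | base => exact le_rfl
  | succ n hn ih =>
    rcases j with - | j
    · exact le_rfl
    · rw [gz_succ]
      have := gz_pos (x := n) (by omega) (show j ≤ 7 by omega)
      omega

/-! ### The partitions with a long first row -/

/-- the degree of the partition `(n - m, t)` of `n`, `t` a partition of `m` with hook product `H` -/
def degL (n m : ℕ) (t : List ℕ) (H : ℕ) : ℕ :=
  Nat.div (n.descFactorial (m + t.headD 0)) (Nat.mul ((List.range (t.headD 0)).map fun j => n - m - j + colLen t j).prod H)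

theorem degL_eq {n m d : ℕ} {a : ℕ} {t : List ℕ} (hl : IsPart (a :: t) n) (hd : d * hookProd (a :: t) = n.factorial)
    (hm : t.sum = m) : degL n m t (hookProd t) = d := by
  have ht : IsPart t m := ⟨hl.sorted.of_cons, fun x hx => hl.pos x (List.mem_cons_of_mem _ hx), hm⟩
  obtain ⟨f, hf0, hf⟩ := exists_deg ht.sorted ht.sum
  have h1 := deg_mul_desc hl hd (f := f) (by rw [hm, hf])
  have ha : a = n - m := by
    have := hl.sum
    rw [List.sum_cons, hm] at this
    omega
  rw [hm] at h1
  have h2 : (∏ j ∈ range (t.headD 0), (a - j + colLen t j)) =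
      ((List.range (t.headD 0)).map fun j => n - m - j + colLen t j).prod := by
    rw [← ha]; rfl
  rw [h2] at h1
  unfold degL
  change n.descFactorial (m + t.headD 0) / (_ * hookProd t) = d
  have h3 : f * (d * (((List.range (t.headD 0)).map fun j => n - m - j + colLen t j).prod * hookProd t)) =
      f * n.descFactorial (m + t.headD 0) := by
    rw [← h1, ← hf]; ring
  have h4 := Nat.eq_of_mul_eq_mul_left hf0 h3
  rw [← h4]
  apply Nat.mul_div_cancel
  apply Nat.mul_pos _ (hookProd_pos ht.sorted)
  apply Nat.pos_of_ne_zero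
  intro h0
  rw [h0, zero_mul, mul_zero] at h4
  have h5 := Nat.descFactorial_eq_zero_iff_lt.1 h4.symm
  -- `m + headD t ≤ n`
  have h6 : t.headD 0 ≤ a := by
    cases t with
    | nil => simp
    | cons b t => exact List.rel_of_pairwise_cons hl.sorted (by simp)
  have := hl.sum
  rw [List.sum_cons, hm] at this
  omega

/-- the check for the partitions with at most `K` boxes outside the first row -/
def levChk (chk : ℕ → Bool) (n K : ℕ) : Bool :=
  (List.range (K + 1)).all fun m => go (fun t H => chk (degL n m t H)) (m + 1) m 1 [] 1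

theorem levChk_head {chk : ℕ → Bool} {n K : ℕ} (h : levChk chk n K = true) {l : List ℕ} {d : ℕ} (hn : 0 < n)
    (hl : IsPart l n) (hd : d * hookProd l = n.factorial) (hh : n ≤ l.headD 0 + K) : chk d = true := by
  cases l with
  | nil =>
    have := hl.sum
    rw [List.sum_nil] at this
    omega
  | cons a t =>
    rw [List.headD_cons] at hh
    have hs := hl.sum
    rw [List.sum_cons] at hs
    rw [levChk, List.all_eq_true] at h
    have h1 := h t.sum (by rw [List.mem_range]; omega)
    have h2 := check_of_isPart h1 (l := t) ⟨hl.sorted.of_cons, fun x hx => hl.pos x (List.mem_cons_of_mem _ hx), rfl⟩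
    rwa [degL_eq hl hd rfl] at h2

/-- **the check at one `n ≥ 25`** -/
theorem check_of_lev {chk : ℕ → Bool} {n K : ℕ} (hn : 25 ≤ n) (hK : K ≤ 6) (h : levChk chk n K = true) {d : ℕ}
    (hd : IsDeg n d) : chk d = true ∨ gz (K + 1) n ≤ d := by
  obtain ⟨l, hl, he⟩ := hd
  by_cases h1 : n ≤ l.headD 0 + K
  · exact Or.inl (levChk_head h (by omega) hl he h1)
  by_cases h2 : n ≤ colLen l 0 + K
  · left
    have h3 : (transpose l).headD 0 = colLen l 0 := by rw [headD_eq_getD, getD_transpose hl.sorted]
    exact levChk_head h (by omega) (isPart_transpose hl) (by rw [hookProd_transpose hl, he]) (by rw [h3]; exact h2)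
  · exact Or.inr (lv_all hn (K + 1) (by omega) l d hl.sorted hl.sum he (by omega) (by omega))

end Cfsg.Agent.H208.DS
end

-- part: H208/DS/Core
section
/-!
# Facts on the degrees of a simple group with a self-centralizing element of order 23 (helper208, S4906)
-/

set_option autoImplicit false

namespace Cfsg.Agent.H208.DS

open Cfsg Subgroup
open scoped commutatorElement
open Cfsg.Agent.Characters.Core
open Cfsg.Agent.M23Order.Base
open Cfsg.Agent.H704 (IsDeg)

universe u

/-- the degrees of `G` are degrees of `S_n` (the definition of `H704/DS/Base.lean`) -/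
def SDeg (n : ℕ) (G : Type*) [Group G] : Prop :=
  ∀ ψ : G → ℂ, IsIrrCharacter G ψ → ∃ d : ℕ, IsDeg n d ∧ ψ 1 = d

/-- a possible degree -/
structure Good (N n e : ℕ) : Prop where
  one_lt : 1 < e
  dvd : e ∣ N
  sq : e * e < N
  deg : IsDeg n e
  res : e % 23 = 0 ∨ e % 23 = 1 ∨ e % 23 = 22 ∨ e % 23 = 11 ∨ e % 23 = 12

/-- the facts on the degrees -/
structure Facts (N n : ℕ) : Prop where
  prime_to : ∀ p : ℕ, p.Prime → p ∣ N → ∃ e, Good N n e ∧ ¬ p ∣ e
  exc : ∃ e, Good N n e ∧ (e % 23 = 11 ∨ e % 23 = 12)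
  dvd23 : (∀ e, Good N n e → 14 * (e * e) < N) → ∃ e, Good N n e ∧ e % 23 = 0

theorem facts {K : Type u} [Group K] [Finite K] [IsSimpleGroup K] (hna : ¬ IsMulCommutative K) {N n : ℕ}
    (hN : Nat.card K = N) (h23 : 23 ∣ N) (h232 : ¬ 23 ^ 2 ∣ N) (he : N / 23 % 23 = 11) (hbig : 1000 < N)
    (hC : ∀ y : K, orderOf y = 23 → Nat.card (centralizer ({y} : Set K)) = 23) (hd : SDeg n K) : Facts N n := by
  classical
  have : Fact (Nat.Prime 23) := ⟨by norm_num⟩
  obtain ⟨P, hP, ⟨D⟩⟩ := H417.BlockCount.exists_SC (G := K) 23 (by norm_num) (by rw [hN]; exact h23)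
    (by rw [hN]; exact h232) hC (e := 11) (t := 2) (by rw [hN]; exact he) (by norm_num)
  have hcomm : commutator K = ⊤ := by
    rcases (inferInstance : IsSimpleGroup K).eq_bot_or_eq_top_of_normal (commutator K) inferInstance with h | h
    · exfalso
      apply hna
      refine ⟨⟨fun a b => ?_⟩⟩
      have h1 : ⁅a, b⁆ ∈ commutator K := Subgroup.commutator_mem_commutator (Subgroup.mem_top _) (Subgroup.mem_top _)
      rw [h, Subgroup.mem_bot] at h1
      exact commutatorElement_eq_one_iff_mul_comm.1 h1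
    · exact h
  have := finite_irr (G := K)
  have := Fintype.ofFinite (IrrCharacter K)
  have hsum : ∑ η : IrrCharacter K, dg η ^ 2 = N := by rw [sum_dg_sq, hN]
  have hone : dg D.one = 1 := dg_of_eq (by rw [D.coe_one]; simp)
  have hcases := H417.BlockCount.mod_cases D (by norm_num) (by norm_num) (by norm_num)
  have hgood : ∀ χ : IrrCharacter K, χ ≠ D.one → Good N n (dg χ) := by
    intro χ hχ
    refine ⟨?_, ?_, ?_, ?_, ?_⟩
    · have h1 := dg_ne_zero χ
      have h2 : dg χ ≠ 1 := by
        intro h3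
        apply hχ
        apply Subtype.ext
        rw [coe_eq_one_of_dg hcomm h3, D.coe_one]
      omega
    · rw [← hN]; exact dg_dvd χ
    · have h1 := sum_dg_sq_le ({D.one, χ} : Finset (IrrCharacter K))
      rw [Finset.sum_pair hχ.symm, hone, hN] at h1
      rw [← pow_two]
      omega
    · obtain ⟨d, h1, h2⟩ := hd χ χ.2
      rw [dg_eq] at h2
      have h3 : dg χ = d := by exact_mod_cast h2
      rw [h3]; exact h1
    · rcases hcases χ with h | h | h | h | h <;> (clear * - h; omega)
  refine ⟨?_, ?_, ?_⟩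
  · intro p hp hpN
    by_contra hcon
    push Not at hcon
    have h1 : p ∣ ∑ η ∈ Finset.univ.erase D.one, dg η ^ 2 :=
      Finset.dvd_sum fun η hη => dvd_pow (hcon _ (hgood η (Finset.ne_of_mem_erase hη))) two_ne_zero
    rw [← Finset.add_sum_erase _ _ (Finset.mem_univ D.one), hone, one_pow] at hsum
    rw [← hsum] at hpN
    have h2 := (Nat.dvd_add_left h1).1 hpN
    exact hp.one_lt.ne' (Nat.dvd_one.1 h2)
  · have h1 : D.X.Nonempty := by rw [← Finset.card_pos, D.card_X]; norm_num
    obtain ⟨χ, hχ⟩ := h1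
    have h2 : χ ≠ D.one := fun h => Finset.disjoint_left.1 D.disj D.one_mem (h ▸ hχ)
    refine ⟨dg χ, hgood χ h2, ?_⟩
    rcases H417.BlockCount.mod_X' D (by norm_num) (by norm_num) hχ with h | h <;> omega
  · intro hB
    by_contra hcon
    push Not at hcon
    have h1 : ∀ χ : IrrCharacter K, χ ∈ D.NE ∪ D.X := by
      intro χ
      by_contra h2
      rw [Finset.mem_union, not_or] at h2
      have h3 : χ ≠ D.one := fun h => h2.1 (h ▸ D.one_mem)
      exact hcon _ (hgood χ h3) (H417.BlockCount.mod_out' D h2.1 h2.2)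
    have h2 : (Finset.univ : Finset (IrrCharacter K)) = D.NE ∪ D.X := by
      ext χ
      exact ⟨fun _ => h1 χ, fun _ => Finset.mem_univ _⟩
    have h3 : (Finset.univ.erase D.one : Finset (IrrCharacter K)).card = 12 := by
      rw [Finset.card_erase_of_mem (Finset.mem_univ _), h2, Finset.card_union_of_disjoint D.disj, D.card_NE, D.card_X]
    rw [← Finset.add_sum_erase _ _ (Finset.mem_univ D.one), hone, one_pow] at hsum
    have h4 : ∑ η ∈ Finset.univ.erase D.one, 14 * dg η ^ 2 ≤ ∑ _η ∈ Finset.univ.erase D.one, N := by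
      apply Finset.sum_le_sum
      intro η hη
      have := hB _ (hgood η (Finset.ne_of_mem_erase hη))
      rw [← pow_two] at this
      omega
    rw [← Finset.mul_sum, Finset.sum_const, h3, smul_eq_mul] at h4
    omega

/-! ### The five groups -/

theorem not_comm {K : Type*} [Group K] [Finite K] [IsSimpleGroup K] (h : ¬ (Nat.card K).Prime) : ¬ IsMulCommutative K :=
  Cfsg.Agent.H604.Cop.Conway.not_comm_of_card h

theorem simple_m23 : IsSimpleGroup Spor.M23 := by
  let _ := Cfsg.Agent.SporadicA.MathieuRecog.act23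
  have _ := Cfsg.Agent.SporadicA.MathieuRecog.act23_faithful
  refine Cfsg.Agent.SporadicA.DegreePrime.isSimpleGroup_of_card_degree23
    (Ω := Cfsg.Agent.SporadicA.MathieuRecog.Pt23) ?_ Cfsg.Agent.SporadicA.MathieuRecog.card_M23
  rw [Nat.card_eq_fintype_card]
  decide +kernel

theorem facts_m23 {K : Type u} [Group K] [Finite K] (h : Spor.IsoM23 K) {n : ℕ} (hd : SDeg n K) : Facts 10200960 n := by
  obtain ⟨e⟩ := id h
  have h0 := simple_m23
  have hs : IsSimpleGroup K := (MulEquiv.isSimpleGroup_congr e).2 h0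
  have hN : Nat.card K = 10200960 := by
    rw [Nat.card_congr e.toEquiv]; exact Cfsg.Agent.SporadicA.MathieuRecog.card_M23
  exact facts (not_comm (by rw [hN]; norm_num)) hN (by norm_num) (by norm_num) (by norm_num) (by norm_num)
    (fun y hy => cent_m23 h hy) hd

theorem facts_m24 {K : Type u} [Group K] [Finite K] (h : Spor.IsoM24 K) {n : ℕ} (hd : SDeg n K) : Facts 244823040 n := by
  obtain ⟨e⟩ := id h
  have h0 : IsSimpleGroup M24 := Cfsg.Agent.S0365.result
  have hs : IsSimpleGroup K := (MulEquiv.isSimpleGroup_congr e).2 h0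
  have hN : Nat.card K = 244823040 := by
    rw [Nat.card_congr e.toEquiv]; exact Cfsg.Agent.SporadicA.M24Trans.card_M24
  exact facts (not_comm (by rw [hN]; norm_num)) hN (by norm_num) (by norm_num) (by norm_num) (by norm_num)
    (fun y hy => cent_m24 h hy) hd

theorem facts_co3 {K : Type u} [Group K] [Finite K] (h : Spor.IsoCo3 K) {n : ℕ} (hd : SDeg n K) :
    Facts 495766656000 n := by
  obtain ⟨e⟩ := id h
  have h0 := H49.CoStab.simple_co3
  have hs : IsSimpleGroup K := (MulEquiv.isSimpleGroup_congr e).2 h0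
  have hN : Nat.card K = 495766656000 := by
    rw [Nat.card_congr e.toEquiv]; exact H49.CoStab.card_co3
  exact facts (not_comm (by rw [hN]; norm_num)) hN (by norm_num) (by norm_num) (by norm_num) (by norm_num)
    (fun y hy => cent_co3 h hy) hd

theorem facts_co2 {K : Type u} [Group K] [Finite K] (h : Spor.IsoCo2 K) {n : ℕ} (hd : SDeg n K) :
    Facts 42305421312000 n := by
  obtain ⟨e⟩ := id h
  have h0 := H49.CoStab.simple_co2
  have hs : IsSimpleGroup K := (MulEquiv.isSimpleGroup_congr e).2 h0
  have hN : Nat.card K = 42305421312000 := by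
    rw [Nat.card_congr e.toEquiv]; exact H49.CoStab.card_co2
  exact facts (not_comm (by rw [hN]; norm_num)) hN (by norm_num) (by norm_num) (by norm_num) (by norm_num)
    (fun y hy => cent_co2 h hy) hd

theorem facts_co1 {K : Type u} [Group K] [Finite K] (h : Spor.IsoCo1 K) {n : ℕ} (hd : SDeg n K) :
    Facts 4157776806543360000 n := by
  obtain ⟨e⟩ := id h
  have h0 : IsSimpleGroup Spor.Co1 := Cfsg.Agent.S0399.result.1
  have hs : IsSimpleGroup K := (MulEquiv.isSimpleGroup_congr e).2 h0
  have hN : Nat.card K = 4157776806543360000 := by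
    rw [Nat.card_congr e.toEquiv]; exact Cfsg.Agent.BpSpor.MBigCo.card_co1
  exact facts (not_comm (by rw [hN]; norm_num)) hN (by norm_num) (by norm_num) (by norm_num) (by norm_num)
    (fun y hy => cent_co1 h hy) hd

end Cfsg.Agent.H208.DS
end

-- part: H208/DS/Kill
section
/-!
# The kernel checks for the divisors of `|Co1|` (helper208, S4906)
-/

set_option autoImplicit false
set_option linter.unusedSectionVars false

namespace Cfsg.Agent.H208.DS

open Cfsg.Agent.H704

/-- the order of `Co1` -/
abbrev NN : ℕ := 4157776806543360000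

/-- `d` is not an exceptional degree -/
def chkC (N d : ℕ) : Bool :=
  cond (Nat.beq (Nat.mod N d) 0)
    (cond (Nat.ble N (Nat.mul d d)) true
      (cond (Nat.beq (Nat.mod d 23) 11) false (cond (Nat.beq (Nat.mod d 23) 12) false true)))
    true

/-- `d` is no degree, or divisible by `p` -/
def chkA (N p d : ℕ) : Bool :=
  cond (Nat.beq (Nat.mod N d) 0)
    (cond (Nat.ble N (Nat.mul d d)) true
      (cond (Nat.beq d 1) true (cond (Nat.beq (Nat.mod d p) 0) true
        (cond (Nat.beq (Nat.mod d 23) 0) false (cond (Nat.beq (Nat.mod d 23) 1) false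
          (cond (Nat.beq (Nat.mod d 23) 22) false (cond (Nat.beq (Nat.mod d 23) 11) false
            (cond (Nat.beq (Nat.mod d 23) 12) false true)))))))) 
    true

/-- the test with the reason `r` -/
def chkR (N r d : ℕ) : Bool := cond (Nat.beq r 0) (chkC N d) (chkA N r d)

/-! ### The facts used -/

/-- the facts for `NN` -/
structure FactsW (N n : ℕ) : Prop where
  prime_to : ∀ p : ℕ, p = 2 ∨ p = 3 ∨ p = 5 ∨ p = 7 → ∃ e, Good N n e ∧ ¬ p ∣ e
  exc : ∃ e, Good N n e ∧ (e % 23 = 11 ∨ e % 23 = 12)

theorem Good.mono {N N' n e : ℕ} (h : Good N' n e) (hd : N' ∣ N) (h0 : 0 < N) : Good N n e :=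
  ⟨h.one_lt, h.dvd.trans hd, h.sq.trans_le (Nat.le_of_dvd h0 hd), h.deg, h.res⟩

theorem Facts.toW {N N' n : ℕ} (F : Facts N' n) (hd : N' ∣ N) (h0 : 0 < N) (h : 210 ∣ N') : FactsW N n := by
  refine ⟨fun p hp => ?_, ?_⟩
  · have h1 : p.Prime ∧ p ∣ N' := by
      rcases hp with rfl | rfl | rfl | rfl
      · exact ⟨by norm_num, (show 2 ∣ 210 by norm_num).trans h⟩
      · exact ⟨by norm_num, (show 3 ∣ 210 by norm_num).trans h⟩
      · exact ⟨by norm_num, (show 5 ∣ 210 by norm_num).trans h⟩
      · exact ⟨by norm_num, (show 7 ∣ 210 by norm_num).trans h⟩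
    obtain ⟨e, h2, h3⟩ := F.prime_to p h1.1 h1.2
    exact ⟨e, h2.mono hd h0, h3⟩
  · obtain ⟨e, h2, h3⟩ := F.exc
    exact ⟨e, h2.mono hd h0, h3⟩

theorem chkC_false {N n e : ℕ} (h : Good N n e) (h2 : e % 23 = 11 ∨ e % 23 = 12) : chkC N e = false := by
  unfold chkC
  have h3 : Nat.beq (Nat.mod N e) 0 = true := by
    rw [show Nat.mod N e = 0 from Nat.mod_eq_zero_of_dvd h.dvd]; rfl
  have h4 : Nat.ble N (Nat.mul e e) = false := by
    rw [Bool.eq_false_iff]
    intro h5
    have h6 : N ≤ e * e := Nat.le_of_ble_eq_true h5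
    exact absurd h.sq (not_lt.2 h6)
  rw [h3, h4]
  simp only [cond_true, cond_false]
  rcases h2 with h2 | h2
  · rw [show Nat.mod e 23 = 11 from h2]; rfl
  · rw [show Nat.mod e 23 = 12 from h2]; rfl

theorem chkA_false {N n p e : ℕ} (h : Good N n e) (h2 : ¬ p ∣ e) : chkA N p e = false := by
  unfold chkA
  have h3 : Nat.beq (Nat.mod N e) 0 = true := by
    rw [show Nat.mod N e = 0 from Nat.mod_eq_zero_of_dvd h.dvd]; rfl
  have h4 : Nat.ble N (Nat.mul e e) = false := by
    rw [Bool.eq_false_iff]
    intro h5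
    have h6 : N ≤ e * e := Nat.le_of_ble_eq_true h5
    exact absurd h.sq (not_lt.2 h6)
  have h5 : Nat.beq e 1 = false := by
    rw [Bool.eq_false_iff]
    intro h5
    have := Nat.eq_of_beq_eq_true h5
    have := h.one_lt
    omega
  have h6 : Nat.beq (Nat.mod e p) 0 = false := by
    rw [Bool.eq_false_iff]
    intro h5
    exact h2 (Nat.dvd_of_mod_eq_zero (Nat.eq_of_beq_eq_true h5))
  rw [h3, h4, h5, h6]
  simp only [cond_true, cond_false]
  rcases h.res with h2 | h2 | h2 | h2 | h2
  · rw [show Nat.mod e 23 = 0 from h2]; rfl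
  · rw [show Nat.mod e 23 = 1 from h2]; rfl
  · rw [show Nat.mod e 23 = 22 from h2]; rfl
  · rw [show Nat.mod e 23 = 11 from h2]; rfl
  · rw [show Nat.mod e 23 = 12 from h2]; rfl

theorem chkR_of_large {N r d : ℕ} (h : N ≤ d * d) : chkR N r d = true := by
  have h1 : Nat.ble N (Nat.mul d d) = true := Nat.ble_eq_true_of_le h
  unfold chkR chkC chkA
  rw [h1]
  simp only [cond_true]
  cases Nat.beq r 0 <;> cases Nat.beq (Nat.mod N d) 0 <;> rfl

theorem chkR_of_not_dvd {N r d : ℕ} (h : ¬ d ∣ N) : chkR N r d = true := by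
  have h1 : Nat.beq (Nat.mod N d) 0 = false := by
    rw [Bool.eq_false_iff]
    intro h5
    exact h (Nat.dvd_of_mod_eq_zero (Nat.eq_of_beq_eq_true h5))
  unfold chkR chkC chkA
  rw [h1]
  cases Nat.beq r 0 <;> rfl

/-- **the kill** -/
theorem FactsW.kill {N n : ℕ} (F : FactsW N n) (r : ℕ) (hr : r = 0 ∨ r = 2 ∨ r = 3 ∨ r = 5 ∨ r = 7)
    (h : ∀ d, IsDeg n d → chkR N r d = true) : False := by
  rcases Nat.eq_zero_or_pos r with h0 | h0
  · subst h0
    obtain ⟨e, h1, h2⟩ := F.exc
    have h3 := h e h1.deg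
    change chkC N e = true at h3
    rw [chkC_false h1 h2] at h3
    exact Bool.false_ne_true h3
  · obtain ⟨e, h1, h2⟩ := F.prime_to r (hr.resolve_left h0.ne')
    have h3 := h e h1.deg
    have h4 : chkR N r e = chkA N r e := by
      unfold chkR
      have : Nat.beq r 0 = false := by
        rw [Bool.eq_false_iff]
        intro h5
        have := Nat.eq_of_beq_eq_true h5
        omega
      rw [this]; rfl
    rw [h4, chkA_false h1 h2] at h3
    exact Bool.false_ne_true h3

/-! ### `16 ≤ n ≤ 76` -/

/-- full enumeration -/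
theorem FactsW.full {n : ℕ} (F : FactsW NN n) (r : ℕ) (hr : r = 0 ∨ r = 2 ∨ r = 3 ∨ r = 5 ∨ r = 7)
    (h : go (fun _ H => chkR NN r (Nat.div n.factorial H)) (n + 1) n 1 [] 1 = true) : False :=
  F.kill r hr fun _ hd => check_of_isDeg h hd

/-- enumeration with a prime `s` not dividing `NN` -/
theorem FactsW.prime {n : ℕ} (F : FactsW NN n) (r s E : ℕ) (hr : r = 0 ∨ r = 2 ∨ r = 3 ∨ r = 5 ∨ r = 7)
    (hs : s.Prime) (hsN : ¬ s ∣ NN) (hE : n = s + E)
    (h : goP E (fun H => chkR NN r (Nat.div n.factorial H)) (n + 1) n 1 [] 1 = true) : False := by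
  refine F.kill r hr fun d hd => ?_
  by_cases h1 : s ∣ d
  · exact chkR_of_not_dvd fun h2 => hsN (h1.trans h2)
  · exact check_of_isDegP hs (by omega) hE h hd h1

end Cfsg.Agent.H208.DS
end

private theorem dce_8cb46c1e09be : _root_.True := by
  try have : _root_.True := by simp only [_root_.Cfsg.Agent.H208.DS.hz.eq_2]
  try have : _root_.True := by simp only [_root_.Cfsg.Agent.H208.DS.gz.eq_2]
  try have : _root_.True := by simp only [_root_.Cfsg.Agent.H208.DS.levChk.eq_1]
  try have : _root_.True := by simp only [_root_.Cfsg.Agent.H208.DS.tab25.eq_1]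
  try have : _root_.True := by simp only [_root_.Cfsg.Agent.H208.DS.hz.eq_1]
  try have : _root_.True := by simp only [_root_.Cfsg.Agent.H208.DS.gz.eq_1]
  try have : _root_.True := by simp only [_root_.Cfsg.Agent.H208.DS.tab26.eq_1]
  exact _root_.True.intro
end

-- part: H208/DS/KillC
section
prune_inst 0x7f00000000000000000000000000000000000000000000000000000000000000000000000000000000000000000000000000000000000000000000000000000000000000000000000000000000000000003fffffffffffffffffffffffffffbeffbdffffffff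
set_option linter.all false
open scoped Cfsg.Agent.FastGrp

/-!
# The kernel checks for `77 ≤ n` (helper208, S4906)
-/

set_option autoImplicit false
set_option linter.unusedSectionVars false

namespace Cfsg.Agent.H208.DS

open Cfsg.Agent.H704

/-- the check at one `n` -/
def killL (K n : ℕ) : Bool :=
  cond (levChk (chkR NN 0) n K) true (cond (levChk (chkR NN 2) n K) true (cond (levChk (chkR NN 3) n K) true
    (cond (levChk (chkR NN 5) n K) true (levChk (chkR NN 7) n K))))

theorem FactsW.lev {n K : ℕ} (F : FactsW NN n) (hn : 25 ≤ n) (hK : K ≤ 6) (h : killL K n = true)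
    (hB : (2039062728 : ℤ) ≤ gz (K + 1) n) : False := by
  have key : ∀ r, r = 0 ∨ r = 2 ∨ r = 3 ∨ r = 5 ∨ r = 7 → levChk (chkR NN r) n K = true → False := by
    intro r hr h1
    refine F.kill r hr fun d hd => ?_
    rcases check_of_lev hn hK h1 hd with h2 | h2
    · exact h2
    · apply chkR_of_large
      have h3 : 2039062728 ≤ d := by exact_mod_cast hB.trans h2
      have h4 := Nat.mul_le_mul h3 h3
      have h5 : NN ≤ 2039062728 * 2039062728 := by norm_num
      exact h5.trans h4
  unfold killL at h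
  cases h0 : levChk (chkR NN 0) n K with
  | true => exact key 0 (by norm_num) h0
  | false =>
    rw [h0, cond_false] at h
    cases h2 : levChk (chkR NN 2) n K with
    | true => exact key 2 (by norm_num) h2
    | false =>
      rw [h2, cond_false] at h
      cases h3 : levChk (chkR NN 3) n K with
      | true => exact key 3 (by norm_num) h3
      | false =>
        rw [h3, cond_false] at h
        cases h5 : levChk (chkR NN 5) n K with
        | true => exact key 5 (by norm_num) h5
        | false =>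
          rw [h5, cond_false] at h
          exact key 7 (by norm_num) h

theorem gz_val {j n a b : ℕ} (h1 : n.descFactorial (j + 1) / (j + 1).factorial = a)
    (h2 : n.descFactorial j / j.factorial = b) : gz (j + 1) n = (a : ℤ) - b := by
  simp only [gz]
  rw [Nat.choose_eq_descFactorial_div_factorial, Nat.choose_eq_descFactorial_div_factorial, h1, h2]

theorem gz_bd {j m n : ℕ} (hj : j + 1 ≤ 7) (hm : 25 ≤ m) (hmn : m ≤ n) {a b : ℕ}
    (h1 : m.descFactorial (j + 1) / (j + 1).factorial = a)
    (h2 : m.descFactorial j / j.factorial = b) (h : b + 2039062728 ≤ a) : (2039062728 : ℤ) ≤ gz (j + 1) n := by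
  have h3 := gz_le hj hm hmn
  rw [gz_val h1 h2] at h3
  have h4 : ((b + 2039062728 : ℕ) : ℤ) ≤ a := by exact_mod_cast h
  push_cast at h4
  omega

theorem bd7 {n : ℕ} (h : 77 ≤ n) : (2039062728 : ℤ) ≤ gz (6 + 1) n :=
  gz_bd (m := 77) (by norm_num) (by norm_num) h (a := 2404808340) (b := 237093780) (by decide +kernel) (by decide +kernel) (by norm_num)

theorem bd6 {n : ℕ} (h : 111 ≤ n) : (2039062728 : ℤ) ≤ gz (5 + 1) n :=
  gz_bd (m := 111) (by norm_num) (by norm_num) h (a := 2264243157) (b := 128164707) (by decide +kernel) (by decide +kernel) (by norm_num)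

theorem bd5 {n : ℕ} (h : 193 ≤ n) : (2039062728 : ℤ) ≤ gz (4 + 1) n :=
  gz_bd (m := 193) (by norm_num) (by norm_num) h (a := 2118000528) (b := 56031760) (by decide +kernel) (by decide +kernel) (by norm_num)

theorem bd4 {n : ℕ} (h : 473 ≤ n) : (2039062728 : ℤ) ≤ gz (3 + 1) n :=
  gz_bd (m := 473) (by norm_num) (by norm_num) h (a := 2059257530) (b := 17525596) (by decide +kernel) (by decide +kernel) (by norm_num)

theorem bd3 {n : ℕ} (h : 2329 ≤ n) : (2039062728 : ℤ) ≤ gz (2 + 1) n :=
  gz_bd (m := 2329) (by norm_num) (by norm_num) h (a := 2102798204) (b := 2710956) (by decide +kernel) (by decide +kernel) (by norm_num)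

theorem bd2 {n : ℕ} (h : 63862 ≤ n) : (2039062728 : ℤ) ≤ gz (1 + 1) n :=
  gz_bd (m := 63862) (by norm_num) (by norm_num) h (a := 2039145591) (b := 63862) (by decide +kernel) (by decide +kernel) (by norm_num)

private noncomputable def kc_dF (n c : ℕ) : ℕ := Nat.rec 1 (fun k ih => Nat.mul (Nat.sub n k) ih) c

private theorem kc_dF_eq (n c : ℕ) : kc_dF n c = n.descFactorial c := by
  induction c with
  | zero => rfl
  | succ c ih => rw [Nat.descFactorial_succ, ← ih]; rfl

private noncomputable def kc_pF (n : ℕ) (ds : List (ℕ × ℕ)) : ℕ :=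
  List.rec 1 (fun p _ ih => Nat.mul (Nat.add (Nat.sub n p.1) p.2) ih) ds

private theorem kc_pF_eq (n : ℕ) (ds : List (ℕ × ℕ)) : kc_pF n ds = (ds.map fun p => n - p.1 + p.2).prod := by
  induction ds with
  | nil => rfl
  | cons p ds ih => rw [List.map_cons, List.prod_cons, ← ih]; rfl

private def kc_key (m : ℕ) (t : List ℕ) (H : ℕ) : ℕ × List (ℕ × ℕ) × ℕ :=
  (m + t.headD 0, (List.range (t.headD 0)).map fun j => (m + j, colLen t j), H)

private noncomputable def kc_gF (n : ℕ) (e : ℕ × List (ℕ × ℕ) × ℕ) : ℕ := Nat.div (kc_dF n e.1) (Nat.mul (kc_pF n e.2.1) e.2.2)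

private theorem kc_gF_key (n m : ℕ) (t : List ℕ) (H : ℕ) : kc_gF n (kc_key m t H) = degL n m t H := by
  have h : (fun j => n - m - j + colLen t j) = (fun p : ℕ × ℕ => n - p.1 + p.2) ∘ fun j => (m + j, colLen t j) :=
    funext fun j => congrArg (· + colLen t j) (Nat.sub_sub n m j)
  delta degL
  rw [h, ← List.map_map, ← kc_pF_eq, ← kc_dF_eq]
  rfl

private theorem kc_chkR_nd {r d : ℕ} (h : Nat.beq (Nat.mod NN d) 0 = false) : chkR NN r d = true := by
  delta chkR chkC chkA
  rw [h]
  cases Nat.beq r 0 <;> rfl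

private noncomputable def kc_lv (T : List (ℕ × List (ℕ × ℕ) × ℕ)) (r n : ℕ) : Bool :=
  List.rec true (fun e _ ih => Bool.rec ih (Bool.rec false ih (chkR NN r (kc_gF n e)))
    (Nat.beq (Nat.mod (nat_lit 4157776806543360000) (kc_gF n e)) (nat_lit 0))) T

private theorem kc_lv_mem {r n : ℕ} {e : ℕ × List (ℕ × ℕ) × ℕ} : ∀ {T : List (ℕ × List (ℕ × ℕ) × ℕ)},
    kc_lv T r n = true → e ∈ T → chkR NN r (kc_gF n e) = true := by
  intro T
  induction T with
  | nil => intro _ h; exact absurd h List.not_mem_nil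
  | cons x T ih =>
    intro h hm
    have h' : (Bool.rec (kc_lv T r n) (Bool.rec false (kc_lv T r n) (chkR NN r (kc_gF n x)))
      (Nat.beq (Nat.mod NN (kc_gF n x)) 0) : Bool) = true := h
    have h2 : chkR NN r (kc_gF n x) = true ∧ kc_lv T r n = true := by
      cases h3 : Nat.beq (Nat.mod NN (kc_gF n x)) 0 with
      | false => rw [h3] at h'; exact ⟨kc_chkR_nd h3, h'⟩
      | true =>
        rw [h3] at h'
        cases h4 : chkR NN r (kc_gF n x) with
        | false => rw [h4] at h'; exact absurd h' Bool.false_ne_true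
        | true => rw [h4] at h'; exact ⟨rfl, h'⟩
    rcases List.mem_cons.1 hm with rfl | hm
    · exact h2.1
    · exact ih h2.2 hm

private theorem kc_go_mono {c1 c2 : List ℕ → ℕ → Bool} (hc : ∀ t H, c1 t H = true → c2 t H = true) :
    ∀ (f r b : ℕ) (l : List ℕ) (H : ℕ), go c1 f r b l H = true → go c2 f r b l H = true := by
  intro f
  induction f with
  | zero => intro r b l H h; exact h
  | succ f ih =>
    intro r b l H h
    simp only [go] at h ⊢
    by_cases h1 : r = 0
    · rw [if_pos h1] at h ⊢; exact hc _ _ h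
    · rw [if_neg h1] at h ⊢
      by_cases h2 : r < b
      · rw [if_pos h2]
      · rw [if_neg h2, List.all_eq_true] at h ⊢
        exact fun i hi => ih _ _ _ _ (h i hi)

private def kc_okT (T : List (ℕ × List (ℕ × ℕ) × ℕ)) (K : ℕ) : Bool :=
  (List.range (K + 1)).all fun m => go (fun t H => decide (kc_key m t H ∈ T)) (m + 1) m 1 [] 1

private theorem kc_lev_of {T : List (ℕ × List (ℕ × ℕ) × ℕ)} {K : ℕ} (hT : kc_okT T K = true) {r n : ℕ}
    (h : kc_lv T r n = true) : levChk (chkR NN r) n K = true := by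
  delta levChk
  delta kc_okT at hT
  rw [List.all_eq_true] at hT ⊢
  intro m hm
  refine kc_go_mono (fun t H h1 => ?_) _ _ _ _ _ (hT m hm)
  rw [← kc_gF_key]
  exact kc_lv_mem h (of_decide_eq_true h1)

private theorem kc_condm {a b a' b' : Bool} (h1 : a = true → a' = true) (h2 : b = true → b' = true)
    (h : (Bool.rec b true a : Bool) = true) : cond a' true b' = true := by
  cases a with
  | true => rw [h1 rfl]; rfl
  | false => rw [h2 h]; cases a' <;> rfl

private noncomputable def kc_killF (T : List (ℕ × List (ℕ × ℕ) × ℕ)) (n : ℕ) : Bool :=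
  Bool.rec (Bool.rec (Bool.rec (Bool.rec (kc_lv T 7 n) true (kc_lv T 5 n)) true (kc_lv T 3 n)) true (kc_lv T 2 n)) true (kc_lv T 0 n)

private theorem kc_killF_lev {T : List (ℕ × List (ℕ × ℕ) × ℕ)} {K : ℕ} (hT : kc_okT T K = true) {n : ℕ}
    (h : kc_killF T n = true) : killL K n = true :=
  kc_condm (kc_lev_of hT) (kc_condm (kc_lev_of hT) (kc_condm (kc_lev_of hT) (kc_condm (kc_lev_of hT) (kc_lev_of hT)))) h

private noncomputable def kc_upT (f : ℕ → Bool) (lo hi : ℕ) : Bool :=
  Nat.rec true (fun n ih => Bool.rec true (Bool.rec false ih (f n)) (Nat.ble lo n)) hi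

private theorem kc_upT_spec {f : ℕ → Bool} {lo n : ℕ} (h1 : lo ≤ n) : ∀ {hi : ℕ}, kc_upT f lo hi = true → n < hi → f n = true := by
  intro hi
  induction hi with
  | zero => intro _ h; exact absurd h (Nat.not_lt_zero _)
  | succ k ih =>
    intro h h2
    have h' : (Bool.rec true (Bool.rec false (kc_upT f lo k) (f k)) (Nat.ble lo k) : Bool) = true := h
    rw [Nat.ble_eq_true_of_le (h1.trans (Nat.le_of_lt_succ h2))] at h'
    cases h3 : f k with
    | false => rw [h3] at h'; exact absurd h' Bool.false_ne_true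
    | true =>
      rw [h3] at h'
      rcases Nat.lt_succ_iff_lt_or_eq.1 h2 with h4 | rfl
      · exact ih h' h4
      · exact h3

private def kc_T3 : List (ℕ × List (ℕ × ℕ) × ℕ) :=
  [(nat_lit 0, [], nat_lit 1),
   (nat_lit 2, [(nat_lit 1, nat_lit 1)], nat_lit 1),
   (nat_lit 4, [(nat_lit 2, nat_lit 1), (nat_lit 3, nat_lit 1)], nat_lit 2),
   (nat_lit 3, [(nat_lit 2, nat_lit 2)], nat_lit 2),
   (nat_lit 6, [(nat_lit 3, nat_lit 1), (nat_lit 4, nat_lit 1), (nat_lit 5, nat_lit 1)], nat_lit 6),
   (nat_lit 5, [(nat_lit 3, nat_lit 2), (nat_lit 4, nat_lit 1)], nat_lit 3),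
   (nat_lit 4, [(nat_lit 3, nat_lit 3)], nat_lit 6)]

private theorem kc_ok3 : kc_okT kc_T3 3 = true := by decide +kernel

private def kc_T4 : List (ℕ × List (ℕ × ℕ) × ℕ) :=
  [(nat_lit 0, [], nat_lit 1),
   (nat_lit 2, [(nat_lit 1, nat_lit 1)], nat_lit 1),
   (nat_lit 4, [(nat_lit 2, nat_lit 1), (nat_lit 3, nat_lit 1)], nat_lit 2),
   (nat_lit 3, [(nat_lit 2, nat_lit 2)], nat_lit 2),
   (nat_lit 6, [(nat_lit 3, nat_lit 1), (nat_lit 4, nat_lit 1), (nat_lit 5, nat_lit 1)], nat_lit 6),
   (nat_lit 5, [(nat_lit 3, nat_lit 2), (nat_lit 4, nat_lit 1)], nat_lit 3),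
   (nat_lit 4, [(nat_lit 3, nat_lit 3)], nat_lit 6),
   (nat_lit 8, [(nat_lit 4, nat_lit 1), (nat_lit 5, nat_lit 1), (nat_lit 6, nat_lit 1), (nat_lit 7, nat_lit 1)], nat_lit 24),
   (nat_lit 7, [(nat_lit 4, nat_lit 2), (nat_lit 5, nat_lit 1), (nat_lit 6, nat_lit 1)], nat_lit 8),
   (nat_lit 6, [(nat_lit 4, nat_lit 2), (nat_lit 5, nat_lit 2)], nat_lit 12),
   (nat_lit 6, [(nat_lit 4, nat_lit 3), (nat_lit 5, nat_lit 1)], nat_lit 8),
   (nat_lit 5, [(nat_lit 4, nat_lit 4)], nat_lit 24)]

private theorem kc_ok4 : kc_okT kc_T4 4 = true := by decide +kernel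

private def kc_T5 : List (ℕ × List (ℕ × ℕ) × ℕ) :=
  [(nat_lit 0, [], nat_lit 1),
   (nat_lit 2, [(nat_lit 1, nat_lit 1)], nat_lit 1),
   (nat_lit 4, [(nat_lit 2, nat_lit 1), (nat_lit 3, nat_lit 1)], nat_lit 2),
   (nat_lit 3, [(nat_lit 2, nat_lit 2)], nat_lit 2),
   (nat_lit 6, [(nat_lit 3, nat_lit 1), (nat_lit 4, nat_lit 1), (nat_lit 5, nat_lit 1)], nat_lit 6),
   (nat_lit 5, [(nat_lit 3, nat_lit 2), (nat_lit 4, nat_lit 1)], nat_lit 3),
   (nat_lit 4, [(nat_lit 3, nat_lit 3)], nat_lit 6),
   (nat_lit 8, [(nat_lit 4, nat_lit 1), (nat_lit 5, nat_lit 1), (nat_lit 6, nat_lit 1), (nat_lit 7, nat_lit 1)], nat_lit 24),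
   (nat_lit 7, [(nat_lit 4, nat_lit 2), (nat_lit 5, nat_lit 1), (nat_lit 6, nat_lit 1)], nat_lit 8),
   (nat_lit 6, [(nat_lit 4, nat_lit 2), (nat_lit 5, nat_lit 2)], nat_lit 12),
   (nat_lit 6, [(nat_lit 4, nat_lit 3), (nat_lit 5, nat_lit 1)], nat_lit 8),
   (nat_lit 5, [(nat_lit 4, nat_lit 4)], nat_lit 24),
   (nat_lit 10, [(nat_lit 5, nat_lit 1), (nat_lit 6, nat_lit 1), (nat_lit 7, nat_lit 1), (nat_lit 8, nat_lit 1), (nat_lit 9, nat_lit 1)], nat_lit 120),
   (nat_lit 9, [(nat_lit 5, nat_lit 2), (nat_lit 6, nat_lit 1), (nat_lit 7, nat_lit 1), (nat_lit 8, nat_lit 1)], nat_lit 30),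
   (nat_lit 8, [(nat_lit 5, nat_lit 2), (nat_lit 6, nat_lit 2), (nat_lit 7, nat_lit 1)], nat_lit 24),
   (nat_lit 8, [(nat_lit 5, nat_lit 3), (nat_lit 6, nat_lit 1), (nat_lit 7, nat_lit 1)], nat_lit 20),
   (nat_lit 7, [(nat_lit 5, nat_lit 3), (nat_lit 6, nat_lit 2)], nat_lit 24),
   (nat_lit 7, [(nat_lit 5, nat_lit 4), (nat_lit 6, nat_lit 1)], nat_lit 30),
   (nat_lit 6, [(nat_lit 5, nat_lit 5)], nat_lit 120)]

private theorem kc_ok5 : kc_okT kc_T5 5 = true := by decide +kernel

private def kc_T6 : List (ℕ × List (ℕ × ℕ) × ℕ) :=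
  [(nat_lit 0, [], nat_lit 1),
   (nat_lit 2, [(nat_lit 1, nat_lit 1)], nat_lit 1),
   (nat_lit 4, [(nat_lit 2, nat_lit 1), (nat_lit 3, nat_lit 1)], nat_lit 2),
   (nat_lit 3, [(nat_lit 2, nat_lit 2)], nat_lit 2),
   (nat_lit 6, [(nat_lit 3, nat_lit 1), (nat_lit 4, nat_lit 1), (nat_lit 5, nat_lit 1)], nat_lit 6),
   (nat_lit 5, [(nat_lit 3, nat_lit 2), (nat_lit 4, nat_lit 1)], nat_lit 3),
   (nat_lit 4, [(nat_lit 3, nat_lit 3)], nat_lit 6),
   (nat_lit 8, [(nat_lit 4, nat_lit 1), (nat_lit 5, nat_lit 1), (nat_lit 6, nat_lit 1), (nat_lit 7, nat_lit 1)], nat_lit 24),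
   (nat_lit 7, [(nat_lit 4, nat_lit 2), (nat_lit 5, nat_lit 1), (nat_lit 6, nat_lit 1)], nat_lit 8),
   (nat_lit 6, [(nat_lit 4, nat_lit 2), (nat_lit 5, nat_lit 2)], nat_lit 12),
   (nat_lit 6, [(nat_lit 4, nat_lit 3), (nat_lit 5, nat_lit 1)], nat_lit 8),
   (nat_lit 5, [(nat_lit 4, nat_lit 4)], nat_lit 24),
   (nat_lit 10, [(nat_lit 5, nat_lit 1), (nat_lit 6, nat_lit 1), (nat_lit 7, nat_lit 1), (nat_lit 8, nat_lit 1), (nat_lit 9, nat_lit 1)], nat_lit 120),
   (nat_lit 9, [(nat_lit 5, nat_lit 2), (nat_lit 6, nat_lit 1), (nat_lit 7, nat_lit 1), (nat_lit 8, nat_lit 1)], nat_lit 30),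
   (nat_lit 8, [(nat_lit 5, nat_lit 2), (nat_lit 6, nat_lit 2), (nat_lit 7, nat_lit 1)], nat_lit 24),
   (nat_lit 8, [(nat_lit 5, nat_lit 3), (nat_lit 6, nat_lit 1), (nat_lit 7, nat_lit 1)], nat_lit 20),
   (nat_lit 7, [(nat_lit 5, nat_lit 3), (nat_lit 6, nat_lit 2)], nat_lit 24),
   (nat_lit 7, [(nat_lit 5, nat_lit 4), (nat_lit 6, nat_lit 1)], nat_lit 30),
   (nat_lit 6, [(nat_lit 5, nat_lit 5)], nat_lit 120),
   (nat_lit 12, [(nat_lit 6, nat_lit 1), (nat_lit 7, nat_lit 1), (nat_lit 8, nat_lit 1), (nat_lit 9, nat_lit 1), (nat_lit 10, nat_lit 1), (nat_lit 11, nat_lit 1)], nat_lit 720),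
   (nat_lit 11, [(nat_lit 6, nat_lit 2), (nat_lit 7, nat_lit 1), (nat_lit 8, nat_lit 1), (nat_lit 9, nat_lit 1), (nat_lit 10, nat_lit 1)], nat_lit 144),
   (nat_lit 10, [(nat_lit 6, nat_lit 2), (nat_lit 7, nat_lit 2), (nat_lit 8, nat_lit 1), (nat_lit 9, nat_lit 1)], nat_lit 80),
   (nat_lit 10, [(nat_lit 6, nat_lit 3), (nat_lit 7, nat_lit 1), (nat_lit 8, nat_lit 1), (nat_lit 9, nat_lit 1)], nat_lit 72),
   (nat_lit 9, [(nat_lit 6, nat_lit 2), (nat_lit 7, nat_lit 2), (nat_lit 8, nat_lit 2)], nat_lit 144),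
   (nat_lit 9, [(nat_lit 6, nat_lit 3), (nat_lit 7, nat_lit 2), (nat_lit 8, nat_lit 1)], nat_lit 45),
   (nat_lit 9, [(nat_lit 6, nat_lit 4), (nat_lit 7, nat_lit 1), (nat_lit 8, nat_lit 1)], nat_lit 72),
   (nat_lit 8, [(nat_lit 6, nat_lit 3), (nat_lit 7, nat_lit 3)], nat_lit 144),
   (nat_lit 8, [(nat_lit 6, nat_lit 4), (nat_lit 7, nat_lit 2)], nat_lit 80),
   (nat_lit 8, [(nat_lit 6, nat_lit 5), (nat_lit 7, nat_lit 1)], nat_lit 144),
   (nat_lit 7, [(nat_lit 6, nat_lit 6)], nat_lit 720)]

private theorem kc_ok6 : kc_okT kc_T6 6 = true := by decide +kernel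

private theorem kc_up77 : kc_upT (kc_killF kc_T6) 77 111 = true := by decide +kernel
private theorem kc_up111 : kc_upT (kc_killF kc_T5) 111 193 = true := by decide +kernel
private theorem kc_up193 : kc_upT (kc_killF kc_T4) 193 473 = true := by decide +kernel
private theorem kc_up473 : kc_upT (kc_killF kc_T3) 473 1400 = true := by decide +kernel
private theorem kc_up1400 : kc_upT (kc_killF kc_T3) 1400 2337 = true := by decide +kernel

theorem killC {n : ℕ} (h1 : 77 ≤ n) (h2 : n < 2337) (F : FactsW NN n) : False := by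
  have hn : 25 ≤ n := Nat.le_trans (by decide) h1
  rcases Nat.lt_or_ge n 111 with a | a
  · exact F.lev hn (by decide) (kc_killF_lev kc_ok6 (kc_upT_spec h1 kc_up77 a)) (bd7 h1)
  rcases Nat.lt_or_ge n 193 with b | b
  · exact F.lev hn (by decide) (kc_killF_lev kc_ok5 (kc_upT_spec a kc_up111 b)) (bd6 a)
  rcases Nat.lt_or_ge n 473 with c | c
  · exact F.lev hn (by decide) (kc_killF_lev kc_ok4 (kc_upT_spec b kc_up193 c)) (bd5 b)
  rcases Nat.lt_or_ge n 1400 with d | d
  · exact F.lev hn (by decide) (kc_killF_lev kc_ok3 (kc_upT_spec c kc_up473 d)) (bd4 c)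
  · exact F.lev hn (by decide) (kc_killF_lev kc_ok3 (kc_upT_spec d kc_up1400 h2)) (bd4 c)

/-! ### At most two boxes outside the first row -/

theorem degL_zero (n : ℕ) : degL n 0 [] 1 = 1 := by
  unfold degL
  change n.descFactorial 0 / (1 * 1) = 1
  rw [Nat.descFactorial_zero]

theorem degL_one {n : ℕ} (hn : 4 ≤ n) : degL n 1 [1] 1 = n - 1 := by
  obtain ⟨m, rfl⟩ := Nat.exists_eq_add_of_le hn
  unfold degL
  change (4 + m).descFactorial 2 / (([4 + m - 1 - 0 + colLen [1] 0].prod) * 1) = _
  have h1 : colLen [1] 0 = 1 := by decide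
  rw [h1, List.prod_singleton, mul_one, Nat.descFactorial_succ, Nat.descFactorial_one]
  rw [show 4 + m - 1 - 0 + 1 = 4 + m by omega]
  exact Nat.mul_div_cancel _ (by omega)

theorem degL_two {n : ℕ} (hn : 4 ≤ n) : degL n 2 [2] 2 = n * (n - 3) / 2 := by
  obtain ⟨m, rfl⟩ := Nat.exists_eq_add_of_le hn
  unfold degL
  change (4 + m).descFactorial 4 / (([4 + m - 2 - 0 + colLen [2] 0, 4 + m - 2 - 1 + colLen [2] 1].prod) * 2) = _
  have h1 : colLen [2] 0 = 1 := by decide
  have h2 : colLen [2] 1 = 1 := by decide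
  rw [h1, h2, List.prod_cons, List.prod_singleton, Nat.descFactorial_succ, Nat.descFactorial_succ,
    Nat.descFactorial_succ, Nat.descFactorial_one]
  rw [show 4 + m - 2 - 0 + 1 = m + 3 by omega, show 4 + m - 2 - 1 + 1 = m + 2 by omega, show 4 + m - 3 = m + 1 by omega,
    show 4 + m - 2 = m + 2 by omega, show 4 + m - 1 = m + 3 by omega]
  rw [show (m + 1) * ((m + 2) * ((m + 3) * (4 + m))) = ((m + 3) * (m + 2)) * ((4 + m) * (m + 1)) by ring]
  rw [Nat.mul_div_mul_left _ _ (by positivity)]

theorem degL_two' {n : ℕ} (hn : 4 ≤ n) : degL n 2 [1, 1] 2 = (n - 1) * (n - 2) / 2 := by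
  obtain ⟨m, rfl⟩ := Nat.exists_eq_add_of_le hn
  unfold degL
  change (4 + m).descFactorial 3 / (([4 + m - 2 - 0 + colLen [1, 1] 0].prod) * 2) = _
  have h1 : colLen [1, 1] 0 = 2 := by decide
  rw [h1, List.prod_singleton, Nat.descFactorial_succ, Nat.descFactorial_succ, Nat.descFactorial_one]
  rw [show 4 + m - 2 - 0 + 2 = m + 4 by omega, 
    show 4 + m - 2 = m + 2 by omega, show 4 + m - 1 = m + 3 by omega]
  rw [show (m + 2) * ((m + 3) * (4 + m)) = (m + 4) * ((m + 3) * (m + 2)) by ring]
  rw [Nat.mul_div_mul_left _ _ (by positivity)]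

theorem levChk_two {chk : ℕ → Bool} {n : ℕ} (hn : 4 ≤ n) (h0 : chk 1 = true) (ha : chk (n - 1) = true)
    (hb : chk (n * (n - 3) / 2) = true) (hc : chk ((n - 1) * (n - 2) / 2) = true) : levChk chk n 2 = true := by
  have e : levChk chk n 2 = (chk (degL n 0 [] 1) && (chk (degL n 1 [1] 1) && ((chk (degL n 2 [1, 1] 2) && chk (degL n 2 [2] 2)) && true))) := by
    have r1 : rowHook 1 [] = 1 := by decide
    have r2 : rowHook 2 [] = 2 := by decide
    have r3 : rowHook 1 [1] = 2 := by decide
    simp [levChk, go, List.range_succ, r1, r2, r3]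
  rw [e, degL_zero, degL_one hn, degL_two hn, degL_two' hn, h0, ha, hb, hc]
  rfl

/-- the three degrees -/
def chk3 (r n : ℕ) : Bool :=
  cond (chkR NN r (Nat.sub n 1)) (cond (chkR NN r (Nat.div (Nat.mul n (Nat.sub n 3)) 2))
    (chkR NN r (Nat.div (Nat.mul (Nat.sub n 1) (Nat.sub n 2)) 2)) false) false

/-- the check at one `n` -/
def killT (n : ℕ) : Bool :=
  cond (chk3 0 n) true (cond (chk3 2 n) true (cond (chk3 3 n) true (cond (chk3 5 n) true (chk3 7 n))))

theorem chk3_lev {r n : ℕ} (hr : r = 0 ∨ r = 2 ∨ r = 3 ∨ r = 5 ∨ r = 7) (hn : 4 ≤ n) (h : chk3 r n = true) :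
    levChk (chkR NN r) n 2 = true := by
  unfold chk3 at h
  cases h1 : chkR NN r (Nat.sub n 1) with
  | false => rw [h1] at h; exact absurd h (by simp)
  | true =>
    rw [h1, cond_true] at h
    cases h2 : chkR NN r (Nat.div (Nat.mul n (Nat.sub n 3)) 2) with
    | false => rw [h2] at h; exact absurd h (by simp)
    | true =>
      rw [h2, cond_true] at h
      refine levChk_two hn ?_ h1 h2 h
      rcases hr with rfl | rfl | rfl | rfl | rfl <;> decide +kernel

theorem killT_lev {n : ℕ} (hn : 4 ≤ n) (h : killT n = true) : killL 2 n = true := by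
  unfold killT at h
  unfold killL
  cases h0 : chk3 0 n with
  | true => rw [chk3_lev (by norm_num) hn h0]; rfl
  | false =>
    rw [h0, cond_false] at h
    cases h2 : chk3 2 n with
    | true => rw [chk3_lev (by norm_num) hn h2]; cases levChk (chkR NN 0) n 2 <;> rfl
    | false =>
      rw [h2, cond_false] at h
      cases h3 : chk3 3 n with
      | true => rw [chk3_lev (by norm_num) hn h3]; cases levChk (chkR NN 0) n 2 <;> cases levChk (chkR NN 2) n 2 <;> rfl
      | false =>
        rw [h3, cond_false] at h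
        cases h5 : chk3 5 n with
        | true =>
          rw [chk3_lev (by norm_num) hn h5]
          cases levChk (chkR NN 0) n 2 <;> cases levChk (chkR NN 2) n 2 <;> cases levChk (chkR NN 3) n 2 <;> rfl
        | false =>
          rw [h5, cond_false] at h
          rw [chk3_lev (by norm_num) hn h]
          cases levChk (chkR NN 0) n 2 <;> cases levChk (chkR NN 2) n 2 <;> cases levChk (chkR NN 3) n 2 <;>
            cases levChk (chkR NN 5) n 2 <;> rfl

/-- `f` at all `a * p ^ i ≤ B`, `i ≤ e` -/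
private noncomputable def kc_pw (B p : ℕ) (f : ℕ → Bool) (e : ℕ) : ℕ → Bool :=
  Nat.rec (fun a => f a)
    (fun _ ih a => Bool.rec false (Bool.rec true (ih (Nat.mul a p)) (Nat.ble (Nat.mul a p) B)) (f a)) e

private theorem kc_pw_spec {B p : ℕ} {f : ℕ → Bool} (hp : 0 < p) : ∀ {e a : ℕ}, kc_pw B p f e a = true →
    ∀ i, i ≤ e → a * p ^ i ≤ B → f (a * p ^ i) = true := by
  intro e
  induction e with
  | zero =>
    intro a h i hi _
    rw [Nat.le_zero.1 hi, pow_zero, mul_one]
    exact h
  | succ e ih =>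
    intro a h i hi hB
    have h' : (Bool.rec false (Bool.rec true (kc_pw B p f e (a * p)) (Nat.ble (a * p) B)) (f a) : Bool) = true := h
    cases h3 : f a with
    | false => rw [h3] at h'; exact absurd h' Bool.false_ne_true
    | true =>
      rw [h3] at h'
      cases i with
      | zero => rw [pow_zero, mul_one]; exact h3
      | succ i =>
        rw [pow_succ', ← mul_assoc] at hB ⊢
        rw [Nat.ble_eq_true_of_le ((Nat.le_mul_of_pos_right _ (pow_pos hp i)).trans hB)] at h'
        exact ih h' i (Nat.le_of_succ_le_succ hi) hB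

private theorem kc_pw_dvd {B p e M : ℕ} {f g : ℕ → Bool} (hp : p.Prime) (hM : 0 < M)
    (H : ∀ a, f a = true → ∀ m, m ∣ M → a * m ≤ B → g (a * m) = true) :
    ∀ a, kc_pw B p f e a = true → ∀ m, m ∣ p ^ e * M → a * m ≤ B → g (a * m) = true := by
  intro a h m hm hB
  obtain ⟨k1, k2, h1, h2, rfl⟩ := (Nat.dvd_mul).1 hm
  obtain ⟨i, hi, rfl⟩ := (Nat.dvd_prime_pow hp).1 h1
  rw [← mul_assoc] at hB ⊢
  exact H _ (kc_pw_spec hp.pos h i hi ((Nat.le_mul_of_pos_right _ (Nat.pos_of_dvd_of_pos h2 hM)).trans hB)) k2 h2 hB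

private noncomputable def kc_gT (m : ℕ) : Bool :=
  Bool.rec true (Bool.rec false (killT (Nat.add m 1)) (killT m)) (Nat.ble 2328 m)

private theorem kc_pw_ok : kc_pw 67865 23 (kc_pw 67865 13 (kc_pw 67865 11 (kc_pw 67865 7 (kc_pw 67865 5 (kc_pw 67865 3 (kc_pw 67865 2 kc_gT 22) 9) 4) 2) 1) 1) 1 1
    = true := by decide +kernel

private theorem kc_gT_dvd {m : ℕ} (h : m ∣ 2 * NN) (h1 : 2328 ≤ m) (h2 : m ≤ 67865) :
    killT m = true ∧ killT (m + 1) = true := by
  have h0 : ∀ a, kc_gT a = true → ∀ m, m ∣ 1 → a * m ≤ 67865 → kc_gT (a * m) = true := by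
    intro a ha m hm _
    rw [Nat.dvd_one.1 hm, mul_one]
    exact ha
  have h3 := kc_pw_dvd (by norm_num) (by decide) (kc_pw_dvd (by norm_num) (by decide) (kc_pw_dvd (by norm_num) (by decide)
    (kc_pw_dvd (by norm_num) (by decide) (kc_pw_dvd (by norm_num) (by decide) (kc_pw_dvd Nat.prime_three (by decide)
      (kc_pw_dvd Nat.prime_two Nat.one_pos h0)))))) 1 kc_pw_ok m
    ((show 2 * NN = 23 ^ 1 * (13 ^ 1 * (11 ^ 1 * (7 ^ 2 * (5 ^ 4 * (3 ^ 9 * (2 ^ 22 * 1)))))) by decide +kernel) ▸ h)
    (by rw [one_mul]; exact h2)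
  rw [one_mul] at h3
  have h4 : (Bool.rec true (Bool.rec false (killT (m + 1)) (killT m)) (Nat.ble 2328 m) : Bool) = true := h3
  rw [Nat.ble_eq_true_of_le h1] at h4
  cases h5 : killT m with
  | false => rw [h5] at h4; exact absurd h4 Bool.false_ne_true
  | true => rw [h5] at h4; exact ⟨rfl, h4⟩

private theorem kc_chkR_ndvd {d : ℕ} (h : ¬ d ∣ NN) : chkR NN 0 d = true := by
  apply kc_chkR_nd
  rw [Bool.eq_false_iff]
  intro h1
  exact h (Nat.dvd_of_mod_eq_zero (Nat.eq_of_beq_eq_true h1))

private theorem kc_half_ndvd {x y : ℕ} (h2 : 2 ∣ x * y) (h : ¬ x ∣ 2 * NN) : ¬ x * y / 2 ∣ NN := by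
  intro h1
  have h3 : 2 * (x * y / 2) ∣ 2 * NN := Nat.mul_dvd_mul_left 2 h1
  rw [Nat.mul_div_cancel' h2] at h3
  exact h ((Nat.dvd_mul_right x y).trans h3)

theorem killD {n : ℕ} (h1 : 2329 ≤ n) (h2 : n < 67865) (F : FactsW NN n) : False := by
  have key : killT n = true := by
    by_cases a : n ∣ 2 * NN
    · exact (kc_gT_dvd a (Nat.le_of_succ_le h1) (Nat.le_of_lt h2)).1
    by_cases b : n - 1 ∣ 2 * NN
    · have h3 := (kc_gT_dvd b (by clear a b; omega) (by clear a b; omega)).2
      rwa [show n - 1 + 1 = n by clear a b h3; omega] at h3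
    have c1 : chkR NN 0 (Nat.sub n 1) = true := kc_chkR_ndvd fun h => b (h.mul_left 2)
    have c2 : chkR NN 0 (Nat.div (Nat.mul n (Nat.sub n 3)) 2) = true := kc_chkR_ndvd (kc_half_ndvd
      ((show 2 ∣ n ∨ 2 ∣ n - 3 by clear a b c1; omega).elim (fun h => h.mul_right _) (fun h => h.mul_left _)) a)
    have c3 : chkR NN 0 (Nat.div (Nat.mul (Nat.sub n 1) (Nat.sub n 2)) 2) = true := kc_chkR_ndvd (kc_half_ndvd
      ((show 2 ∣ n - 1 ∨ 2 ∣ n - 2 by clear a b c1 c2; omega).elim (fun h => h.mul_right _) (fun h => h.mul_left _)) b)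
    delta killT chk3
    rw [c1, c2, c3]
    rfl
  exact F.lev (by omega) (by norm_num) (killT_lev (by omega) key) (bd3 h1)

/-- at most one box outside the first row -/
theorem killE {N n : ℕ} (hN : N ≤ NN) (h0 : 1 < N) (hn : 63862 ≤ n) (F : Facts N n) : False := by
  have hlev : levChk (fun d => Nat.beq d 1 || Nat.beq d (n - 1)) n 1 = true := by
    have r1 : rowHook 1 [] = 1 := by decide
    have e1 : levChk (fun d => Nat.beq d 1 || Nat.beq d (n - 1)) n 1 =
        ((Nat.beq (degL n 0 [] 1) 1 || Nat.beq (degL n 0 [] 1) (n - 1)) &&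
          (Nat.beq (degL n 1 [1] 1) 1 || Nat.beq (degL n 1 [1] 1) (n - 1))) := by
      simp [levChk, go, List.range_succ, r1]
    rw [e1, degL_zero, degL_one (by omega)]
    simp
  have key : ∀ e, Good N n e → e = n - 1 := by
    intro e he
    rcases check_of_lev (by omega) (by norm_num) hlev he.deg with h | h
    · simp only [Bool.or_eq_true, Nat.beq_eq] at h
      have := he.one_lt
      rcases h with h | h
      · omega
      · exact h
    · exfalso
      have h2 := (bd2 hn).trans h
      have h3 : 2039062728 ≤ e := by exact_mod_cast h2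
      have h4 := Nat.mul_le_mul h3 h3
      have h5 : NN ≤ 2039062728 * 2039062728 := by norm_num
      have := he.sq
      omega
  obtain ⟨e, he, -⟩ := F.exc
  have h1 := key e he
  have h2 : (n - 1).minFac.Prime := Nat.minFac_prime (by omega)
  obtain ⟨e', h3, h4⟩ := F.prime_to (n - 1).minFac h2 ((Nat.minFac_dvd _).trans (h1 ▸ he.dvd))
  rw [key e' h3] at h4
  exact h4 (Nat.minFac_dvd _)

end Cfsg.Agent.H208.DS

private theorem dce_fe62f8d900db : _root_.True := by
  try have : _root_.True := by simp only [_root_.Cfsg.Agent.H208.DS.allRange.eq_def]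
  try have : _root_.True := by simp only [_root_.Cfsg.Agent.H208.DS.allRange.eq_1]
  try have : _root_.True := by simp only [_root_.Cfsg.Agent.H208.DS.allRange.eq_2]
  exact _root_.True.intro
end

-- part: H3/DS/Fi22Row
section
set_option linter.all false
open scoped Cfsg.Agent.FastGrp

-- part: H3/DS/Fi22Deg
section
/-!
# 429, 858 and 3080, 6160 are not simultaneously degrees of `S_n` (helper3, for S4906)
-/

set_option autoImplicit false

namespace Cfsg.Agent.H3.DS.Fi22

open Cfsg.Agent.H704

/-- the check for 429, 858 -/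
def chkA (d : ℕ) : Bool := !(Nat.beq d 429) && !(Nat.beq d 858)

/-- the check for 3080, 6160 -/
def chkB (d : ℕ) : Bool := !(Nat.beq d 3080) && !(Nat.beq d 6160)

theorem of_chkA {d : ℕ} (h : chkA d = true) : ¬ (d = 429 ∨ d = 858) := by
  rintro (rfl | rfl) <;> revert h <;> decide

theorem of_chkB {d : ℕ} (h : chkB d = true) : ¬ (d = 3080 ∨ d = 6160) := by
  rintro (rfl | rfl) <;> revert h <;> decide

theorem full {n d : ℕ} (h : IsDeg n d) (hc : go (fun _ H => chkA (Nat.div n.factorial H)) (n + 1) n 1 [] 1 = true) :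
    ¬ (d = 429 ∨ d = 858) :=
  of_chkA (check_of_isDeg hc h)

theorem fullB {n d : ℕ} (h : IsDeg n d) (hc : go (fun _ H => chkB (Nat.div n.factorial H)) (n + 1) n 1 [] 1 = true) :
    ¬ (d = 3080 ∨ d = 6160) :=
  of_chkB (check_of_isDeg hc h)

theorem part {n d : ℕ} (r E : ℕ) (h : IsDeg n d) (hr : r.Prime) (h1 : ¬ r ∣ 858) (hrn : r ≤ n) (hE : n = r + E)
    (hc : goP E (fun H => chkA (Nat.div n.factorial H)) (n + 1) n 1 [] 1 = true) :
    ¬ (d = 429 ∨ d = 858) := by
  intro hd
  refine of_chkA (check_of_isDegP hr hrn hE hc h ?_) hd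
  intro h2
  apply h1
  rcases hd with rfl | rfl
  · exact h2.trans ⟨2, by norm_num⟩
  · exact h2

theorem t5 {d : ℕ} (h : IsDeg 5 d) : ¬ (d = 429 ∨ d = 858) := full h (go_of_fast (by decide +kernel))
theorem t6 {d : ℕ} (h : IsDeg 6 d) : ¬ (d = 429 ∨ d = 858) := full h (go_of_fast (by decide +kernel))
theorem t7 {d : ℕ} (h : IsDeg 7 d) : ¬ (d = 429 ∨ d = 858) := full h (go_of_fast (by decide +kernel))
theorem t8 {d : ℕ} (h : IsDeg 8 d) : ¬ (d = 429 ∨ d = 858) := full h (go_of_fast (by decide +kernel))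
theorem t9 {d : ℕ} (h : IsDeg 9 d) : ¬ (d = 429 ∨ d = 858) := full h (go_of_fast (by decide +kernel))
theorem t10 {d : ℕ} (h : IsDeg 10 d) : ¬ (d = 429 ∨ d = 858) := full h (go_of_fast (by decide +kernel))
theorem t11 {d : ℕ} (h : IsDeg 11 d) : ¬ (d = 429 ∨ d = 858) := full h (go_of_fast (by decide +kernel))
theorem t12 {d : ℕ} (h : IsDeg 12 d) : ¬ (d = 429 ∨ d = 858) := full h (go_of_fast (by decide +kernel))
theorem t13 {d : ℕ} (h : IsDeg 13 d) : ¬ (d = 3080 ∨ d = 6160) := fullB h (go_of_fast (by decide +kernel))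
theorem t14 {d : ℕ} (h : IsDeg 14 d) : ¬ (d = 3080 ∨ d = 6160) := fullB h (go_of_fast (by decide +kernel))
theorem t15 {d : ℕ} (h : IsDeg 15 d) : ¬ (d = 429 ∨ d = 858) := full h (go_of_fast (by decide +kernel))
theorem t16 {d : ℕ} (h : IsDeg 16 d) : ¬ (d = 429 ∨ d = 858) := full h (go_of_fast (by decide +kernel))
theorem t17 {d : ℕ} (h : IsDeg 17 d) : ¬ (d = 429 ∨ d = 858) :=
  part 17 0 h (by norm_num) (by norm_num) (by norm_num) (by norm_num) (goP_of_fast (by decide +kernel))
theorem t18 {d : ℕ} (h : IsDeg 18 d) : ¬ (d = 429 ∨ d = 858) :=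
  part 17 1 h (by norm_num) (by norm_num) (by norm_num) (by norm_num) (goP_of_fast (by decide +kernel))
theorem t19 {d : ℕ} (h : IsDeg 19 d) : ¬ (d = 429 ∨ d = 858) :=
  part 19 0 h (by norm_num) (by norm_num) (by norm_num) (by norm_num) (goP_of_fast (by decide +kernel))
theorem t20 {d : ℕ} (h : IsDeg 20 d) : ¬ (d = 429 ∨ d = 858) :=
  part 19 1 h (by norm_num) (by norm_num) (by norm_num) (by norm_num) (goP_of_fast (by decide +kernel))
theorem t21 {d : ℕ} (h : IsDeg 21 d) : ¬ (d = 429 ∨ d = 858) :=
  part 19 2 h (by norm_num) (by norm_num) (by norm_num) (by norm_num) (goP_of_fast (by decide +kernel))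
theorem t22 {d : ℕ} (h : IsDeg 22 d) : ¬ (d = 429 ∨ d = 858) :=
  part 19 3 h (by norm_num) (by norm_num) (by norm_num) (by norm_num) (goP_of_fast (by decide +kernel))
theorem t23 {d : ℕ} (h : IsDeg 23 d) : ¬ (d = 429 ∨ d = 858) :=
  part 23 0 h (by norm_num) (by norm_num) (by norm_num) (by norm_num) (goP_of_fast (by decide +kernel))
theorem t24 {d : ℕ} (h : IsDeg 24 d) : ¬ (d = 429 ∨ d = 858) :=
  part 23 1 h (by norm_num) (by norm_num) (by norm_num) (by norm_num) (goP_of_fast (by decide +kernel))
theorem t25 {d : ℕ} (h : IsDeg 25 d) : ¬ (d = 429 ∨ d = 858) :=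
  part 23 2 h (by norm_num) (by norm_num) (by norm_num) (by norm_num) (goP_of_fast (by decide +kernel))
theorem t26 {d : ℕ} (h : IsDeg 26 d) : ¬ (d = 429 ∨ d = 858) :=
  part 23 3 h (by norm_num) (by norm_num) (by norm_num) (by norm_num) (goP_of_fast (by decide +kernel))
theorem t27 {d : ℕ} (h : IsDeg 27 d) : ¬ (d = 429 ∨ d = 858) :=
  part 23 4 h (by norm_num) (by norm_num) (by norm_num) (by norm_num) (goP_of_fast (by decide +kernel))
theorem t28 {d : ℕ} (h : IsDeg 28 d) : ¬ (d = 429 ∨ d = 858) :=
  part 23 5 h (by norm_num) (by norm_num) (by norm_num) (by norm_num) (goP_of_fast (by decide +kernel))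
theorem t29 {d : ℕ} (h : IsDeg 29 d) : ¬ (d = 429 ∨ d = 858) :=
  part 29 0 h (by norm_num) (by norm_num) (by norm_num) (by norm_num) (goP_of_fast (by decide +kernel))
theorem t30 {d : ℕ} (h : IsDeg 30 d) : ¬ (d = 429 ∨ d = 858) :=
  part 29 1 h (by norm_num) (by norm_num) (by norm_num) (by norm_num) (goP_of_fast (by decide +kernel))
theorem t31 {d : ℕ} (h : IsDeg 31 d) : ¬ (d = 429 ∨ d = 858) :=
  part 31 0 h (by norm_num) (by norm_num) (by norm_num) (by norm_num) (goP_of_fast (by decide +kernel))
theorem t32 {d : ℕ} (h : IsDeg 32 d) : ¬ (d = 429 ∨ d = 858) :=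
  part 31 1 h (by norm_num) (by norm_num) (by norm_num) (by norm_num) (goP_of_fast (by decide +kernel))
theorem t33 {d : ℕ} (h : IsDeg 33 d) : ¬ (d = 429 ∨ d = 858) :=
  part 31 2 h (by norm_num) (by norm_num) (by norm_num) (by norm_num) (goP_of_fast (by decide +kernel))
theorem t34 {d : ℕ} (h : IsDeg 34 d) : ¬ (d = 429 ∨ d = 858) :=
  part 31 3 h (by norm_num) (by norm_num) (by norm_num) (by norm_num) (goP_of_fast (by decide +kernel))
theorem t35 {d : ℕ} (h : IsDeg 35 d) : ¬ (d = 429 ∨ d = 858) :=
  part 31 4 h (by norm_num) (by norm_num) (by norm_num) (by norm_num) (goP_of_fast (by decide +kernel))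
theorem t36 {d : ℕ} (h : IsDeg 36 d) : ¬ (d = 429 ∨ d = 858) :=
  part 31 5 h (by norm_num) (by norm_num) (by norm_num) (by norm_num) (goP_of_fast (by decide +kernel))
theorem t37 {d : ℕ} (h : IsDeg 37 d) : ¬ (d = 429 ∨ d = 858) :=
  part 37 0 h (by norm_num) (by norm_num) (by norm_num) (by norm_num) (goP_of_fast (by decide +kernel))
theorem t38 {d : ℕ} (h : IsDeg 38 d) : ¬ (d = 429 ∨ d = 858) :=
  part 37 1 h (by norm_num) (by norm_num) (by norm_num) (by norm_num) (goP_of_fast (by decide +kernel))
theorem t39 {d : ℕ} (h : IsDeg 39 d) : ¬ (d = 429 ∨ d = 858) :=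
  part 37 2 h (by norm_num) (by norm_num) (by norm_num) (by norm_num) (goP_of_fast (by decide +kernel))
theorem t40 {d : ℕ} (h : IsDeg 40 d) : ¬ (d = 429 ∨ d = 858) :=
  part 37 3 h (by norm_num) (by norm_num) (by norm_num) (by norm_num) (goP_of_fast (by decide +kernel))
theorem t41 {d : ℕ} (h : IsDeg 41 d) : ¬ (d = 429 ∨ d = 858) :=
  part 41 0 h (by norm_num) (by norm_num) (by norm_num) (by norm_num) (goP_of_fast (by decide +kernel))
theorem t42 {d : ℕ} (h : IsDeg 42 d) : ¬ (d = 429 ∨ d = 858) :=
  part 41 1 h (by norm_num) (by norm_num) (by norm_num) (by norm_num) (goP_of_fast (by decide +kernel))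
theorem t43 {d : ℕ} (h : IsDeg 43 d) : ¬ (d = 429 ∨ d = 858) :=
  part 43 0 h (by norm_num) (by norm_num) (by norm_num) (by norm_num) (goP_of_fast (by decide +kernel))

theorem no_both {n d e : ℕ} (hn : 5 ≤ n) (hd : IsDeg n d) (he : IsDeg n e) (h1 : d = 429 ∨ d = 858)
    (h2 : e = 3080 ∨ e = 6160) : False := by
  have h43 : n ≤ 43 := by
    by_contra hcon
    push Not at hcon
    have k1 := low_degree (by omega) hd
    have k2 := low_degree (by omega) he
    have h3 : ¬ n * (n - 3) ≤ 2 * d := by
      have h4 : 44 * 41 ≤ n * (n - 3) := Nat.mul_le_mul hcon (by omega)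
      omega
    have h5 : n = 430 ∨ n = 859 := by omega
    rcases h5 with rfl | rfl <;> omega
  interval_cases n
  · exact t5 hd h1
  · exact t6 hd h1
  · exact t7 hd h1
  · exact t8 hd h1
  · exact t9 hd h1
  · exact t10 hd h1
  · exact t11 hd h1
  · exact t12 hd h1
  · exact t13 he h2
  · exact t14 he h2
  · exact t15 hd h1
  · exact t16 hd h1
  · exact t17 hd h1
  · exact t18 hd h1
  · exact t19 hd h1
  · exact t20 hd h1
  · exact t21 hd h1
  · exact t22 hd h1
  · exact t23 hd h1
  · exact t24 hd h1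
  · exact t25 hd h1
  · exact t26 hd h1
  · exact t27 hd h1
  · exact t28 hd h1
  · exact t29 hd h1
  · exact t30 hd h1
  · exact t31 hd h1
  · exact t32 hd h1
  · exact t33 hd h1
  · exact t34 hd h1
  · exact t35 hd h1
  · exact t36 hd h1
  · exact t37 hd h1
  · exact t38 hd h1
  · exact t39 hd h1
  · exact t40 hd h1
  · exact t41 hd h1
  · exact t42 hd h1
  · exact t43 hd h1

end Cfsg.Agent.H3.DS.Fi22
end

-- part: H3/DS/Fi22Row
section
/-!
# S4906, the row of `Fi₂₂` (helper3)
-/

set_option autoImplicit false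

open Cfsg

namespace Cfsg.Agent.H3.DS.Fi22

open Cfsg.Agent.H704 Cfsg.Agent.LThreeFi22 Cfsg.Agent.H841.PB

universe u

/-- `Fi₂₂` has irreducible characters of degrees 429 and 3080. -/
theorem exists_deg {K : Type u} [Group K] [Finite K] (h : Spor.IsoFi22 K) :
    (∃ ψ : K → ℂ, IsIrrCharacter K ψ ∧ ψ 1 = ((429 : ℕ) : ℂ)) ∧
      ∃ ψ : K → ℂ, IsIrrCharacter K ψ ∧ ψ 1 = ((3080 : ℕ) : ℂ) := by
  obtain ⟨e⟩ := h
  have C := Inst.ctx e
  let _ := H870.IMFi22.act C
  have hR := H870.IMFi22.r3 C
  obtain ⟨χ₁, χ₂, h1, h2, -, -, -⟩ := rank3_of hR (a := 429) (b := 3080) (by norm_num)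
    (fun f g D h1 h2 h3 => FiTwentyTwo.arith h1 h2 h3)
  refine ⟨⟨χ₁, χ₁.2, ?_⟩, ⟨χ₂, χ₂.2, ?_⟩⟩
  · rw [← h1]
    exact Blocks.Knorr.charDegree_eq χ₁.2
  · rw [← h2]
    exact Blocks.Knorr.charDegree_eq χ₂.2

/-- **The row of `Fi₂₂`.** -/
theorem row_fi22 {K : Type u} [Group K] [Finite K] (h : Spor.IsoFi22 K) {n : ℕ} (hn : 5 ≤ n) (hd : DegOK n K) :
    False := by
  obtain ⟨⟨ψ, h1, h2⟩, φ, h3, h4⟩ := exists_deg h
  obtain ⟨d, k1, k2⟩ := hd.nat h1 h2
  obtain ⟨e, k3, k4⟩ := hd.nat h3 h4
  exact no_both hn k1 k3 k2 k4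

end Cfsg.Agent.H3.DS.Fi22
end
end

section
prune_inst 0x7f00000000000000000000000000000000000000000000000000000000000000000000000000000000000000000000000000000000000000000000000000000000000000000000000000000000000000003fffffffffffffffffffffffffffbeffbdffffffff

-- part: NotCT/Odd
section
set_option linter.all false

/-!
# Odd characteristic: not in `C_2`, not in `T_2` (helper77)

`K` a group, `X = K / Z(K) ≅ s(r ^ j)`, `r` odd, `s ≠ L_2, ²G_2`:
* `two_not_inC` : `¬ InC 2 K` if `(s, r ^ j)` is not one of `L_3(3), U_3(3), PSp_4(3), L_4(3), U_4(3), G_2(3)`;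
* `two_not_inT` : `¬ InT 2 K`;
* `inGp_two`, `inGp_two_exception` : `K` is a `G_2`-group.
-/

set_option autoImplicit false

namespace Cfsg.Agent.NotCT

open Subgroup Cfsg Cfsg.Agent.OddHalf.LongSL Cfsg.Agent.OddHalf.LieOddFam

universe u

section

variable {X : Type u} [Group X] {s : Typ} {r j : ℕ}

/-- types are known groups -/
theorem known_of_lie {p : ℕ} (hp : p.Prime) (h : IsLieTypeChar p X) : IsKnownSimple' X := by
  rcases h with h | h | h | h | h | h | h | h | ⟨rfl, h⟩ | ⟨rfl, h⟩ | ⟨rfl, h⟩
  · obtain ⟨F, _, _, _, h⟩ := h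
    exact Or.inr (Or.inr (Or.inl ⟨F, inferInstance, inferInstance, h⟩))
  · obtain ⟨F, _, _, _, h⟩ := h
    exact Or.inr (Or.inr (Or.inr (Or.inl ⟨F, inferInstance, inferInstance, h⟩)))
  · obtain ⟨F, _, _, _, h⟩ := h
    exact Or.inr (Or.inr (Or.inr (Or.inr (Or.inl ⟨F, inferInstance, inferInstance, h⟩))))
  · obtain ⟨F, _, _, _, h⟩ := h
    exact Or.inr (Or.inr (Or.inr (Or.inr (Or.inr (Or.inl ⟨F, inferInstance, inferInstance, h⟩)))))
  · obtain ⟨F, _, _, _, h⟩ := h
    exact Or.inr (Or.inr (Or.inr (Or.inr (Or.inr (Or.inr (Or.inl ⟨F, inferInstance, inferInstance, h⟩))))))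
  · obtain ⟨F, _, _, _, h⟩ := h
    exact Or.inr (Or.inr (Or.inr (Or.inr (Or.inr (Or.inr (Or.inr (Or.inl ⟨F, inferInstance, inferInstance, h⟩)))))))
  · refine Or.inr (Or.inr (Or.inr (Or.inr (Or.inr (Or.inr (Or.inr (Or.inr (Or.inl ?_))))))))
    obtain ⟨F, _, _, _, h | h | h | h | h⟩ := h
    · exact Or.inl ⟨F, inferInstance, inferInstance, h⟩
    · exact Or.inr (Or.inl ⟨F, inferInstance, inferInstance, h⟩)
    · exact Or.inr (Or.inr (Or.inl ⟨F, inferInstance, inferInstance, h⟩))
    · exact Or.inr (Or.inr (Or.inr (Or.inl ⟨F, inferInstance, inferInstance, h⟩)))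
    · exact Or.inr (Or.inr (Or.inr (Or.inr (Or.inl ⟨F, inferInstance, inferInstance, h⟩))))
  · refine Or.inr (Or.inr (Or.inr (Or.inr (Or.inr (Or.inr (Or.inr (Or.inr (Or.inl ?_))))))))
    obtain ⟨F, _, _, _, q, hq, h | h⟩ := h
    · exact Or.inr (Or.inr (Or.inr (Or.inr (Or.inr (Or.inl ⟨F, inferInstance, inferInstance, q, hq, h⟩)))))
    · exact Or.inr (Or.inr (Or.inr (Or.inr (Or.inr (Or.inr (Or.inl ⟨F, inferInstance, inferInstance, q, hq, h⟩))))))
  · exact Or.inr (Or.inr (Or.inr (Or.inr (Or.inr (Or.inr (Or.inr (Or.inr (Or.inl (Or.inr (Or.inr (Or.inr (Or.inr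
      (Or.inr (Or.inr (Or.inr (Or.inl h))))))))))))))))
  · exact Or.inr (Or.inr (Or.inr (Or.inr (Or.inr (Or.inr (Or.inr (Or.inr (Or.inl (Or.inr (Or.inr (Or.inr (Or.inr
      (Or.inr (Or.inr (Or.inr (Or.inr (Or.inr (Or.inl h))))))))))))))))))
  · exact Or.inr (Or.inr (Or.inr (Or.inr (Or.inr (Or.inr (Or.inr (Or.inr (Or.inl (Or.inr (Or.inr (Or.inr (Or.inr
      (Or.inr (Or.inr (Or.inr (Or.inr (Or.inl h)))))))))))))))))

end

section

variable {K : Type u} [Group K] [Finite K] {s : Typ} {r j : ℕ}

end

end Cfsg.Agent.NotCT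
end

-- part: H334/DS/TitsRow
section
set_option linter.all false
open scoped Cfsg.Agent.FastGrp

/-!
# S4906: the row of the Tits group (helper334)
-/

set_option autoImplicit false

universe u

namespace Cfsg.Agent.H334.DS.TitsRow

open Cfsg Subgroup Cfsg.Agent.H704 Cfsg.Agent.H704.DS
open scoped commutatorElement

theorem simple_tits {K : Type*} [Group K] (h : Lie.IsoTits K) : IsSimpleGroup K := by
  obtain ⟨e⟩ := h
  have hs : IsSimpleGroup Cfsg.Lie.TitsGroup := Cfsg.Agent.S1074.result.2.1
  have hn : Nontrivial K := e.toEquiv.nontrivial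
  exact IsSimpleGroup.isSimpleGroup_of_surjective e.symm.toMonoidHom e.symm.surjective

variable {K : Type u} [Group K] [Finite K]

theorem perfect_of_cent (hs : IsSimpleGroup K) {p : ℕ} (hp : p.Prime) (hd : p ∣ Nat.card K) (hne : Nat.card K ≠ p)
    (hC : ∀ y : K, orderOf y = p → Nat.card (centralizer ({y} : Set K)) = p) : commutator K = ⊤ := by
  rcases IsSimpleGroup.eq_bot_or_eq_top_of_normal (commutator K) inferInstance with h | h
  · exfalso
    have : Fact p.Prime := ⟨hp⟩
    obtain ⟨x, hx⟩ := exists_prime_orderOf_dvd_card' (G := K) p hd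
    apply hne
    rw [← hC x hx]
    have h1 : centralizer ({x} : Set K) = ⊤ := by
      rw [eq_top_iff]
      intro y _
      rw [mem_centralizer_singleton_iff]
      have h2 : ⁅y, x⁆ ∈ commutator K := commutator_mem_commutator (mem_top y) (mem_top x)
      rw [h, mem_bot, commutatorElement_eq_one_iff_mul_comm] at h2
      exact h2
    rw [h1, card_top]
  · exact h

/-- the facts on the Tits group -/
theorem facts_Tits (h : Lie.IsoTits K) (him : IM K) : Facts K 17971200 [2, 3, 5, 13] [(13, 6)] := by
  have hc := NotCT.Orders.tits h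
  have hs := simple_tits h
  have hC : ∀ y : K, orderOf y = 13 → Nat.card (centralizer ({y} : Set K)) = 13 := fun y hy =>
    H547.SelfCent.tits h hs (H393.Iso.na_tits h) hy
  have h13 : Nat.Prime 13 := by norm_num
  refine ⟨hc, perfect_of_cent hs h13 (by rw [hc]; norm_num) (by rw [hc]; norm_num) hC, ?_, him, ?_⟩
  · intro p hp
    simp only [List.mem_cons, List.not_mem_nil, or_false] at hp
    rcases hp with rfl | rfl | rfl | rfl <;> norm_num
  · intro q hq
    simp only [List.mem_cons, List.not_mem_nil, or_false] at hq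
    subst hq
    exact SCok.mk' 13 h13 (by norm_num) (by rw [hc]; norm_num) (by rw [hc]; norm_num) hC (e := 6)
      (by rw [hc]) (by norm_num)

/-- **row Tits** -/
theorem row_tits (h : Lie.IsoTits K) (him : IM K) {n : ℕ} (hd : DegOK n K) : False :=
  H704.DS.K.Tits.kill (facts_Tits h him) hd.degM

end Cfsg.Agent.H334.DS.TitsRow
end
end
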